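import Cfsg.Agent.H98.TensorSp.Climb
import Cfsg.Agent.H98.OrthMax.Roots
import Cfsg.Agent.H98.SubfieldOrth.Basic

/-!
The stabiliser of a symplectic tensor decomposition is contained in no larger proper subgroup with all Siegel
transformations missing.
-/

set_option autoImplicit false

namespace Cfsg.Agent.H98.TensorSp

open QuadraticMap Module Matrix Cfsg.Agent.Orthogonal Cfsg.Agent.H98.SubfieldOrth Cfsg.Agent.H98.ExtField
  Cfsg.Agent.H98.TensorGL

variable {F : Type*} [Field F] {a b : ℕ} {V : Type*} [AddCommGroup V] [Module F V]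
  {Q : QuadraticForm F V}

/-- A quadratic space with coordinates in which it is a tensor product of symplectic spaces. -/
structure Coord (S : Pair F a b) (Q : QuadraticForm F V) (L : T F a b ≃ₗ[F] V) : Prop where
  polar_eq : ∀ x y, polar Q (L x) (L y) = S.Bt x y
  pure_eq : ∀ (v : Fin b → F) (u : Fin a → F), Q (L (TensorGL.pure v u)) = 0

variable {S : Pair F a b} {L : T F a b ≃ₗ[F] V}

/-- Orthogonal maps in tensor coordinates. -/
noncomputable def coordUnits (Q : QuadraticForm F V) (L : T F a b ≃ₗ[F] V) : O Q →* (Module.End F (T F a b))ˣ where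
  toFun x :=
    ⟨(L.trans ((x : V ≃ₗ[F] V).trans L.symm) : T F a b →ₗ[F] T F a b),
      (L.trans ((x : V ≃ₗ[F] V).symm.trans L.symm) : T F a b →ₗ[F] T F a b),
      LinearMap.ext fun m => by simp, LinearMap.ext fun m => by simp⟩
  map_one' := Units.ext (LinearMap.ext fun m => L.symm_apply_apply m)
  map_mul' x y := Units.ext (LinearMap.ext fun m => by simp)

theorem coordUnits_apply (x : O Q) (m : T F a b) :
    (coordUnits Q L x : Module.End F (T F a b)) m = L.symm ((x : V ≃ₗ[F] V) (L m)) := rfl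

theorem coordUnits_injective : Function.Injective (coordUnits Q L) := fun x y h => O.ext_app fun z => by
  have := LinearMap.congr_fun (congrArg Units.val h) (L.symm z)
  rw [coordUnits_apply, coordUnits_apply, LinearEquiv.apply_symm_apply] at this
  exact L.symm.injective this

variable (hc : Coord S Q L)
include hc

theorem Coord.iso (x : O Q) (m m' : T F a b) :
    S.Bt ((coordUnits Q L x : Module.End F (T F a b)) m) ((coordUnits Q L x : Module.End F (T F a b)) m') =
      S.Bt m m' := by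
  rw [← hc.polar_eq, ← hc.polar_eq, coordUnits_apply, coordUnits_apply, LinearEquiv.apply_symm_apply,
    LinearEquiv.apply_symm_apply, O.polar_app]

theorem Coord.sie_val (v w : Fin b → F) (c d : Fin a → F)
    (h : polar Q (L (TensorGL.pure v c)) (L (TensorGL.pure w d)) = 0) :
    (coordUnits Q L (sie (L (TensorGL.pure v c)) (L (TensorGL.pure w d)) (hc.pure_eq v c) h) :
      Module.End F (T F a b)) = 1 + S.sk (S.tau c d) (-S.tau d c) v w := by
  refine LinearMap.ext fun m => L.injective ?_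
  rw [coordUnits_apply, LinearEquiv.apply_symm_apply, sie_app, hc.pure_eq, zero_mul, sub_zero, hc.polar_eq,
    hc.polar_eq, S.Bt_pure, S.Bt_pure, LinearMap.add_apply, Module.End.one_apply, Pair.sk, LinearMap.add_apply,
    te_apply, te_apply, Matrix.neg_mulVec, Pair.tau_mulVec, Pair.tau_mulVec, map_neg, map_smul, map_smul,
    map_add, map_add, map_neg, map_smul, map_smul]
  abel

theorem Coord.sIn_of_mn {X : Subgroup (O Q)} {v w : Fin b → F} {c d : Fin a → F}
    (h : polar Q (L (TensorGL.pure v c)) (L (TensorGL.pure w d)) = 0)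
    (hm : MN (X.map (coordUnits Q L)) (S.sk (S.tau c d) (-S.tau d c) v w)) :
    SIn X (L (TensorGL.pure v c)) (L (TensorGL.pure w d)) := by
  obtain ⟨-, u, ⟨x, hx, rfl⟩, hu⟩ := hm
  refine ⟨hc.pure_eq v c, h, ?_⟩
  rw [← coordUnits_injective (Q := Q) (L := L) (Units.ext (hu.trans (hc.sie_val v w c d h).symm))]
  exact hx

theorem Coord.mn_sie {v w : Fin b → F} {c d : Fin a → F}
    (h : polar Q (L (TensorGL.pure v c)) (L (TensorGL.pure w d)) = 0)
    (hsq : S.sk (S.tau c d) (-S.tau d c) v w * S.sk (S.tau c d) (-S.tau d c) v w = 0) :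
    MN ((sieGroup Q).map (coordUnits Q L)) (S.sk (S.tau c d) (-S.tau d c) v w) :=
  ⟨hsq, _, Subgroup.mem_map_of_mem _ (sie_mem (hc.pure_eq v c) h), hc.sie_val v w c d h⟩

omit hc

/-- Symmetrising a sum over pairs. -/
theorem sum_pairs {M : Type*} [AddCommGroup M] {k : ℕ} (f : Fin k → Fin k → M) (h : ∀ i, f i i = 0) :
    ∑ i, ∑ j, f i j = ∑ p ∈ Finset.univ.filter (fun p : Fin k × Fin k => p.1 < p.2), (f p.1 p.2 + f p.2 p.1) := by
  rw [← Fintype.sum_prod_type', Finset.sum_add_distrib,
    ← Finset.sum_filter_add_sum_filter_not Finset.univ (fun p : Fin k × Fin k => p.1 < p.2)]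
  congr 1
  rw [← Finset.sum_filter_add_sum_filter_not (Finset.univ.filter fun p : Fin k × Fin k => ¬p.1 < p.2)
    (fun p => p.1 = p.2), Finset.sum_eq_zero (fun p hp => by rw [(Finset.mem_filter.1 hp).2, h]), zero_add]
  refine Finset.sum_equiv (Equiv.prodComm _ _) (fun p => ?_) (fun p _ => rfl)
  simp only [Finset.mem_filter, Finset.mem_univ, true_and, Equiv.prodComm_apply, Prod.fst_swap, Prod.snd_swap]
  exact ⟨fun ⟨h1, h2⟩ => lt_of_le_of_ne (not_lt.1 h1) (Ne.symm h2), fun h1 => ⟨h1.not_gt, h1.ne'⟩⟩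

theorem mn_sum {W : Type*} [AddCommGroup W] [Module F W] {M : Subgroup (Module.End F W)ˣ} {ι : Type*}
    (s : Finset ι) (N : ι → Module.End F W) (hN : ∀ i ∈ s, MN M (N i))
    (h0 : ∀ i ∈ s, ∀ j ∈ s, N i * N j = 0) : MN M (∑ i ∈ s, N i) := by
  classical
  induction s using Finset.induction_on with
  | empty => rw [Finset.sum_empty]; exact MN.zero
  | @insert i s hi ih =>
    rw [Finset.sum_insert hi]
    refine (hN i (Finset.mem_insert_self _ _)).add
      (ih (fun j hj => hN j (Finset.mem_insert_of_mem hj))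
        fun j hj l hl => h0 j (Finset.mem_insert_of_mem hj) l (Finset.mem_insert_of_mem hl)) ?_ ?_
    · rw [Finset.mul_sum]
      exact Finset.sum_eq_zero fun j hj => h0 i (Finset.mem_insert_self _ _) j (Finset.mem_insert_of_mem hj)
    · rw [Finset.sum_mul]
      exact Finset.sum_eq_zero fun j hj => h0 j (Finset.mem_insert_of_mem hj) i (Finset.mem_insert_self _ _)

include hc

theorem Coord.mn_right (t : F) (v : Fin b → F) :
    MN ((sieGroup Q).map (coordUnits Q L)) (te (t • (1 : Matrix (Fin a) (Fin a) F)) v (S.B₂ v)) := by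
  choose d hd using fun i : Fin a => S.rep₁ (LinearMap.proj i)
  let e : Fin a → Fin a → F := fun i => Pi.single i 1
  have hid : ∑ i, ∑ j, S.tau ((t * d i j) • e i) (e j) = t • (1 : Matrix (Fin a) (Fin a) F) :=
    Matrix.ext_iff_mulVec.2 fun x => by
      simp only [Matrix.sum_mulVec, Pair.tau_mulVec, Matrix.smul_mulVec, Matrix.one_mulVec, smul_smul]
      refine funext fun k => ?_
      simp only [Finset.sum_apply, Pi.smul_apply, e, Pi.single_apply, smul_eq_mul, mul_ite, mul_one, mul_zero]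
      rw [Finset.sum_comm]
      simp only [Finset.sum_ite_eq, Finset.mem_univ, if_true]
      have h1 : x k = S.B₁ (d k) x := by rw [hd]; rfl
      conv_rhs => rw [h1, pi_eq_sum_univ' (d k), map_sum, LinearMap.sum_apply, Finset.mul_sum]
      exact Finset.sum_congr rfl fun j _ => by rw [map_smul, LinearMap.smul_apply, smul_eq_mul]; ring
  have halt : ∀ i j, d i j = S.B₁ (d j) (d i) := fun i j => by rw [hd j]; rfl
  have hsum : te (t • (1 : Matrix (Fin a) (Fin a) F)) v (S.B₂ v) =
      ∑ p ∈ Finset.univ.filter (fun p : Fin a × Fin a => p.1 < p.2),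
        S.sk (S.tau ((t * d p.1 p.2) • e p.1) (e p.2)) (-S.tau (e p.2) ((t * d p.1 p.2) • e p.1)) v v := by
    rw [← hid, sum_pairs _ (fun i => by
      rw [show d i i = 0 by rw [halt, S.alt₁], mul_zero, zero_smul]
      exact Matrix.ext_iff_mulVec.2 fun x => by simp [Pair.tau_mulVec])]
    refine LinearMap.ext fun m => ?_
    rw [te_apply, Matrix.sum_mulVec, map_sum, LinearMap.sum_apply]
    refine Finset.sum_congr rfl fun p _ => ?_
    rw [Pair.sk, LinearMap.add_apply, te_apply, te_apply, ← map_add, Matrix.add_mulVec, Matrix.neg_mulVec,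
      S.tau_smul_left, S.tau_smul_left, S.tau_smul_right, show d p.2 p.1 = -d p.1 p.2 by rw [halt, halt p.1, S.skew₁],
      Matrix.smul_mulVec, Matrix.smul_mulVec, Matrix.smul_mulVec, mul_neg, neg_smul]
  rw [hsum]
  refine mn_sum _ _ (fun p _ => hc.mn_sie ?_ (S.sk_sq _ _ (S.alt₂ v))) fun p _ p' _ => ?_
  · rw [hc.polar_eq, S.Bt_pure_pure, S.alt₂, zero_mul]
  · simp [Pair.sk, add_mul, mul_add, te_mul_te, S.alt₂]

theorem Coord.mn_left (t : F) (c : Fin a → F) :
    MN ((sieGroup Q).map (coordUnits Q L)) (lt (t • S.tau c c)) := by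
  choose f hf using fun k : Fin b => S.rep₂ (LinearMap.proj k)
  let e : Fin b → Fin b → F := fun k => Pi.single k 1
  have halt : ∀ k l, f k l = S.B₂ (f l) (f k) := fun k l => by rw [hf l]; rfl
  have hid : lt (t • S.tau c c) = ∑ k, ∑ l, te ((t * f k l) • S.tau c c) (e k) (S.B₂ (e l)) := by
    refine LinearMap.ext fun m => funext fun i => funext fun k => ?_
    simp only [LinearMap.sum_apply, te_apply, Matrix.smul_mulVec, Finset.sum_apply, TensorGL.pure_apply,
      Pi.smul_apply, e, Pi.single_apply, smul_eq_mul, mul_ite, mul_one, mul_zero]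
    rw [Finset.sum_comm]
    simp only [Finset.sum_ite_eq, Finset.mem_univ, if_true]
    have h1 : ev (S.B₂ (f k)) m = fun i => m i k := funext fun i => by rw [ev_apply, hf]; rfl
    have h2 : (lt (t • S.tau c c) m) i k = t * (S.tau c c *ᵥ ev (S.B₂ (f k)) m) i := by
      rw [h1]
      simp [lt, Matrix.mulVec, dotProduct, Finset.mul_sum, Finset.sum_apply, mul_assoc]
    have h3 : ev (S.B₂ (f k)) m = ∑ l, f k l • ev (S.B₂ (e l)) m := funext fun i => by
      rw [ev_apply]
      conv_lhs => rw [pi_eq_sum_univ' (f k)]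
      simp [e, LinearMap.sum_apply, Finset.sum_apply]
    rw [h2, h3, Matrix.mulVec_sum, Finset.sum_apply, Finset.mul_sum]
    exact Finset.sum_congr rfl fun l _ => by rw [Matrix.mulVec_smul, Pi.smul_apply, smul_eq_mul]; ring
  have hsum : lt (t • S.tau c c) = ∑ p ∈ Finset.univ.filter (fun p : Fin b × Fin b => p.1 < p.2),
      S.sk (S.tau ((t * f p.1 p.2) • c) c) (-S.tau c ((t * f p.1 p.2) • c)) (e p.1) (e p.2) := by
    rw [hid, sum_pairs _ (fun k => by rw [show f k k = 0 by rw [halt, S.alt₂], mul_zero, zero_smul, te_zero_left])]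
    refine Finset.sum_congr rfl fun p _ => ?_
    rw [Pair.sk, S.tau_smul_left, S.tau_smul_right, show f p.2 p.1 = -f p.1 p.2 by rw [halt, halt p.1, S.skew₂],
      mul_neg, neg_smul]
  rw [hsum]
  refine mn_sum _ _ (fun p _ => hc.mn_sie ?_ ?_) fun p _ p' _ => ?_
  · rw [hc.polar_eq, S.Bt_pure_pure, map_smul, LinearMap.smul_apply, S.alt₁, smul_zero, mul_zero]
  all_goals
    refine LinearMap.ext fun m => funext fun i => ?_
    simp [Pair.sk, te_apply, ev_pure, Pair.tau_mulVec, Matrix.neg_mulVec, S.alt₁]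

/-- A group with a non-scalar member of the algebra contains all Eichler transformations. -/
theorem Coord.sieGroup_le [FiniteDimensional F V] (hQ : Nondeg Q) (hn : 3 ≤ finrank F V) (ha : 0 < a)
    (hb : 6 ≤ b) (hq : 3 ≤ a ∨ ∃ t : F, t ≠ 0 ∧ t ≠ 1) {X : Subgroup (O Q)}
    (hG : Gen S (X.map (coordUnits Q L))) (hL : HasL S (X.map (coordUnits Q L))) : sieGroup Q ≤ X := by
  have hindep : ∀ {v w : Fin b → F} (c d : Fin a → F), v ≠ 0 → w ∉ Submodule.span F {v} → S.B₂ v w = 0 →
      SIn X (L (TensorGL.pure v c)) (L (TensorGL.pure w d)) := fun {v w} c d hv hw hvw =>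
    hc.sIn_of_mn (by rw [hc.polar_eq, S.Bt_pure_pure, hvw, zero_mul])
      (HasL.tau hG hb hq hL c d _ (S.isAdj_tau c d) v w hv hw hvw)
  have hperp : ∀ {v y : Fin b → F} (c d : Fin a → F), S.B₂ v y = 0 →
      SIn X (L (TensorGL.pure v c)) (L (TensorGL.pure y d)) := by
    intro v y c d hy
    rcases eq_or_ne v 0 with rfl | hv
    · have h0 : L (TensorGL.pure (0 : Fin b → F) c) = 0 := by
        rw [show TensorGL.pure (0 : Fin b → F) c = 0 from funext fun i => by simp, map_zero]
      rw [h0]; exact sIn_zero_left _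
    by_cases hm : y ∈ Submodule.span F {v}
    · have h1 : finrank F (Submodule.span F ({v} : Set (Fin b → F))) + 3 < b := by
        rw [finrank_span_singleton hv]; omega
      obtain ⟨x, hx, hxn, -⟩ := exists_avoid S ![v, v, v] _ _ h1 h1
      have hx0 : S.B₂ v x = 0 := hx 0
      have hyx : y + x ∉ Submodule.span F {v} := fun h => hxn ((Submodule.add_mem_iff_right _ hm).1 h)
      refine ((hindep c d hv hyx (by rw [map_add, hy, hx0, add_zero])).sub (hindep c d hv hxn hx0)).congr rfl ?_
      rw [← map_sub]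
      exact congrArg L (funext fun i => by simp)
    · exact hindep c d hv hm hy
  have hfull : ∀ {v : Fin b → F} (c : Fin a → F), v ≠ 0 → OrthMax.Full X (L (TensorGL.pure v c)) := by
    intro v c hv w hu huw
    obtain ⟨m, rfl⟩ := L.surjective w
    rw [hc.polar_eq, S.Bt_pure] at huw
    obtain ⟨vs, hvs, -⟩ := exists_partner S (U := ⊥) (w := v) (by rw [Submodule.mem_bot]; exact hv) 1
    have hr : ∀ d, S.B₁ c d = 0 → SIn X (L (TensorGL.pure v c)) (L (TensorGL.pure vs d)) := by
      intro d hd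
      have h1 := lt_of_le_of_lt (Nat.add_le_add_right (finrank_span_pair_le v vs) 3) (show 2 + 3 < b by omega)
      obtain ⟨v₃, hv₃, hv₃n, -⟩ := exists_avoid S ![v, vs, v] _ _ h1 h1
      have hv₃v : S.B₂ v v₃ = 0 := hv₃ 0
      have hv₃s : S.B₂ vs v₃ = 0 := hv₃ 1
      obtain ⟨v₂, hv₂, hv₂z⟩ := exists_partner S (U := Submodule.span F {v}) (w := v₃)
        (fun h => hv₃n (Submodule.span_mono (by simp) h)) 1
      have hv₂v : S.B₂ v v₂ = 0 := hv₂z v (Submodule.mem_span_singleton_self v)
      let d' : Fin a → F := Pi.single ⟨0, ha⟩ 1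
      obtain ⟨e, he⟩ := not_forall.1 fun h0 => (show d' ≠ 0 by simp [d']) (S.nd₁ d' h0)
      set d'' := (S.B₁ d' e)⁻¹ • e with hd''
      have hd1 : S.B₁ d' d'' = 1 := by rw [hd'', map_smul, smul_eq_mul, inv_mul_cancel₀ he]
      obtain ⟨hu', hw', hg⟩ := hperp (v := v₃) (y := vs) d' d (S.comm₂ hv₃s)
      set x := L (TensorGL.pure v₂ d'') with hx
      have hux : SIn X (L (TensorGL.pure v c)) x := hperp c d'' hv₂v
      have hfix : (sie (L (TensorGL.pure v₃ d')) (L (TensorGL.pure vs d)) hu' hw' : V ≃ₗ[F] V)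
          (L (TensorGL.pure v c)) = L (TensorGL.pure v c) :=
        sie_fix' _ _ (by rw [hc.polar_eq, S.Bt_pure_pure, S.comm₂ hv₃v, zero_mul])
          (by rw [hc.polar_eq, S.Bt_pure_pure, S.skew₁ c d, hd, neg_zero, mul_zero])
      refine ((hux.sub ((hux.conj hg).congr hfix rfl)).add
        (hperp c ((polar Q (L (TensorGL.pure vs d)) x) • d') hv₃v)).congr rfl ?_
      rw [sie_app, hc.pure_eq, zero_mul, sub_zero, map_smul, map_smul,
        show polar Q (L (TensorGL.pure v₃ d')) x = 1 by rw [hx, hc.polar_eq, S.Bt_pure_pure, hv₂, hd1, mul_one],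
        one_smul]
      abel
    set r := ev (S.B₂ v) m with hrdef
    have h0 : ev (S.B₂ v) (m - TensorGL.pure vs r) = 0 := by
      rw [map_sub, ev_pure, hvs, one_smul, hrdef, sub_self]
    have hrest : ∀ s : Finset (Fin a), SIn X (L (TensorGL.pure v c))
        (L (∑ i ∈ s, TensorGL.pure ((m - TensorGL.pure vs r) i) (Pi.single i (1 : F)))) := by
      intro s
      classical
      induction s using Finset.induction_on with
      | empty => rw [Finset.sum_empty, map_zero]; exact sIn_zero hu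
      | @insert i s hi ih => rw [Finset.sum_insert hi, map_add]; exact (hperp c _ (congrFun h0 i)).add ih
    obtain ⟨_, _, hs⟩ := ((hrest Finset.univ).add (hr r huw)).congr rfl (w' := L m)
      (by rw [← sum_pure_rows, ← map_add, sub_add_cancel])
    exact hs
  let v : Fin b → F := Pi.single ⟨0, by omega⟩ 1
  let c : Fin a → F := Pi.single ⟨0, ha⟩ 1
  have hv : v ≠ 0 := by simp [v]
  obtain ⟨d, hd⟩ := not_forall.1 fun h0 => (show c ≠ 0 by simp [c]) (S.nd₁ c h0)
  obtain ⟨w, hw, -⟩ := exists_partner S (U := ⊥) (w := v) (by rw [Submodule.mem_bot]; exact hv) 1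
  have hw0 : w ≠ 0 := fun e => by simp [e] at hw
  refine OrthMax.sieGroup_le_of_pair hQ hn (hfull c hv) (hfull d hw0) (hc.pure_eq v c) (hc.pure_eq w d) ?_
  rw [hc.polar_eq, S.Bt_pure_pure, hw, one_mul]
  exact hd

end Cfsg.Agent.H98.TensorSp
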