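import Cfsg.Agent.H98.TensorSp.Ring
import Cfsg.Agent.H98.TensorGL.Shift

/-!
A non-scalar member of the algebra gives every matrix of rank one.
-/

set_option autoImplicit false

namespace Cfsg.Agent.H98.TensorSp

open Module Matrix Cfsg.Agent.H98.ExtField Cfsg.Agent.H98.TensorGL

variable {F : Type*} [Field F] {a b : ℕ} {S : Pair F a b} {M : Subgroup (Module.End F (T F a b))ˣ}

/-- The algebra has a non-scalar member. -/
def HasL (S : Pair F a b) (M : Subgroup (Module.End F (T F a b))ˣ) : Prop :=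
  ∃ K : Matrix (Fin a) (Fin a) F, InL S M K ∧ ∀ t : F, K ≠ t • 1

theorem eigen_of_forall_tau_comm {c x : Fin a → F} (h : ∀ y, S.B₁ c y = 0 → S.B₁ x y = 0) (hc : c ≠ 0) :
    x ∈ Submodule.span F {c} := by
  obtain ⟨y, hy⟩ : ∃ y, S.B₁ c y = 1 := by
    obtain ⟨y, hy⟩ := not_forall.1 fun h0 => hc (S.nd₁ c h0)
    exact ⟨(S.B₁ c y)⁻¹ • y, by rw [map_smul, smul_eq_mul, inv_mul_cancel₀ hy]⟩
  refine Submodule.mem_span_singleton.2 ⟨S.B₁ x y, (sub_eq_zero.1 (S.nd₁ _ fun z => ?_)).symm⟩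
  have := h (z - S.B₁ c z • y) (by rw [map_sub, map_smul, hy, smul_eq_mul, mul_one, sub_self])
  rw [map_sub, map_smul, smul_eq_mul] at this
  rw [map_sub, LinearMap.sub_apply, map_smul, LinearMap.smul_apply, smul_eq_mul]
  linear_combination this

theorem exists_self_ne {K : Matrix (Fin a) (Fin a) F} (hM : Gen S M) (hb : 6 ≤ b) (hK : InL S M K)
    (hns : ∀ t : F, K ≠ t • 1) :
    ∃ L, InL S M L ∧ ∃ c, S.B₁ c (L *ᵥ c) ≠ 0 := by
  by_cases h : ∃ c, S.B₁ c (K *ᵥ c) ≠ 0
  · exact ⟨K, hK, h⟩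
  push Not at h
  have hself : S.IsAdj K K := fun x y => by
    have h1 := h (x + y)
    simp only [Matrix.mulVec_add, map_add, LinearMap.add_apply, h x, h y, zero_add, add_zero] at h1
    rw [S.skew₁ y (K *ᵥ x)]
    linear_combination -h1
  obtain ⟨c, hc⟩ : ∃ c, K *ᵥ c ∉ Submodule.span F {c} := by
    by_contra hcon
    push Not at hcon
    obtain ⟨t, ht⟩ := scalar_of_eigen K hcon
    exact hns t ht
  set d := K *ᵥ c with hd
  have hcd : S.B₁ c d = 0 := h c
  have hconj := InL.conj hM hK 1 c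
  have hD : InL S M (S.tau c d - S.tau d c) := by
    have := InL.add hconj (InL.smul hM hb hK (-1))
    convert this using 1
    simp only [one_smul, add_mul, mul_sub, one_mul, mul_one, neg_smul]
    rw [S.tau_mul hself, S.mul_tau, S.tau_mul_tau, ← hd, show S.B₁ d c = 0 by rw [S.skew₁, hcd, neg_zero],
      zero_smul, add_zero]
    abel
  refine ⟨(S.tau c d - S.tau d c) * K, InL.mul hM hb hD hK, ?_⟩
  obtain ⟨u, hu, hu'⟩ : ∃ u, S.B₁ c u = 0 ∧ S.B₁ d u ≠ 0 := by
    by_contra hcon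
    push Not at hcon
    exact hc (eigen_of_forall_tau_comm (S := S) hcon fun e => hc (by rw [hd, e, Matrix.mulVec_zero]; exact Submodule.zero_mem _))
  refine ⟨u, ?_⟩
  rw [sub_mul, S.tau_mul hself, S.tau_mul hself, Matrix.sub_mulVec, Pair.tau_mulVec, Pair.tau_mulVec, map_sub,
    map_smul, map_smul, ← hd, smul_eq_mul, smul_eq_mul, S.skew₁ c u, hu, neg_zero, mul_zero, zero_sub,
    S.skew₁ d u, mul_neg, neg_neg]
  exact mul_ne_zero hu' hu'

theorem exists_tau (hM : Gen S M) (hb : 6 ≤ b) (hq : 3 ≤ a ∨ ∃ t : F, t ≠ 0 ∧ t ≠ 1)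
    (h : HasL S M) : ∃ x y : Fin a → F, x ≠ 0 ∧ y ≠ 0 ∧ InL S M (S.tau x y) := by
  obtain ⟨K₀, hK₀, hns⟩ := h
  obtain ⟨K, hK, c, hc⟩ := exists_self_ne hM hb hK₀ hns
  obtain ⟨K', hadj⟩ := S.exists_adj K
  have hc0 : c ≠ 0 := fun e => hc (by simp [e])
  set d := K *ᵥ c with hd
  have hsym : ∀ x y, S.B₁ (K' *ᵥ x) y = S.B₁ x (K *ᵥ y) := Pair.IsAdj.symm S hadj
  have hΔ : ∀ (N N' : Matrix (Fin a) (Fin a) F), InL S M ((1 + N) * K * (1 - N')) →
      InL S M (N * K - K * N' - N * K * N') := fun N N' h1 => by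
    convert InL.add h1 (InL.smul hM hb hK (-1)) using 1
    simp only [add_mul, mul_sub, one_mul, mul_one, neg_smul, one_smul]
    abel
  have hD : ∀ (t : F) (x : Fin a → F), InL S M (t • S.tau x (K' *ᵥ x) - t • S.tau (K *ᵥ x) x -
      (t * t * S.B₁ x (K *ᵥ x)) • S.tau x x) := fun t x => by
    convert hΔ _ _ (InL.conj hM hK t x) using 1
    rw [smul_mul_assoc, Matrix.mul_smul, smul_mul_assoc, Matrix.mul_smul, smul_smul, S.tau_mul hadj, S.mul_tau,
      S.tau_mul_tau, hsym, smul_smul]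
  rcases hq with ha | ⟨s, hs0, hs1⟩
  · obtain ⟨z, hz0, hz1, hz2⟩ : ∃ z, S.B₁ c z = 0 ∧ S.B₁ d z ≠ 0 ∧ z ∉ Submodule.span F {c} := by
      let f : (Fin a → F) →ₗ[F] F × F := (S.B₁ c).prod (S.B₁ d)
      obtain ⟨w, hw, hw0⟩ := Submodule.exists_mem_ne_zero_of_ne_bot (LinearMap.ker_ne_bot_of_finrank_lt (f := f)
        (by rw [finrank_prod, finrank_self, finrank_fin_fun]; omega))
      have hw1 : S.B₁ c w = 0 := congrArg Prod.fst hw
      have hw2 : S.B₁ d w = 0 := congrArg Prod.snd hw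
      have hdc : S.B₁ d c ≠ 0 := fun e => hc (by rw [S.skew₁, e, neg_zero])
      refine ⟨c + w, by rw [map_add, S.alt₁, hw1, add_zero], by rw [map_add, hw2, add_zero]; exact hdc, fun hm => ?_⟩
      obtain ⟨r, hr⟩ := Submodule.mem_span_singleton.1 hm
      have hwc : w = (r - 1) • c := by rw [sub_smul, hr, one_smul, add_sub_cancel_left]
      rw [hwc, map_smul, smul_eq_mul] at hw2
      exact hw0 (by rw [hwc, (mul_eq_zero.1 hw2).resolve_right hdc, zero_smul])
    set r := S.B₁ c (K *ᵥ z) with hr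
    set r' := S.B₁ z d with hr'
    have hr'0 : r' ≠ 0 := fun e => hz1 (by rw [S.skew₁, ← hr', e, neg_zero])
    have hzc : S.B₁ z c = 0 := by rw [S.skew₁, hz0, neg_zero]
    have hS : InL S M (r • S.tau c z + r' • S.tau z c) := by
      have h1 := hD 1 c
      have h2 := hD 1 z
      have h3 := hΔ (S.tau c c + S.tau z z) (S.tau c c + S.tau z z) (by
        have := InL.conj hM (InL.conj hM hK 1 z) 1 c
        convert this using 1
        simp only [one_smul, add_mul, mul_add, sub_mul, mul_sub, one_mul, mul_one, mul_assoc, S.tau_mul_tau,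
          hzc, zero_smul]
        simp only [← mul_assoc, S.tau_mul_tau, hz0, zero_smul, zero_mul, mul_zero]
        abel)
      convert InL.add (InL.add h1 h2) (InL.smul hM hb h3 (-1)) using 1
      simp only [one_smul, one_mul, neg_smul, add_mul, mul_add]
      simp only [S.tau_mul hadj, S.mul_tau K, S.tau_mul_tau, hsym, ← hd, ← hr, ← hr']
      abel
    set k := S.B₁ c d with hk
    refine ⟨(r * S.B₁ z d) • c + (r' * k) • z, c, fun e => ?_, hc0, ?_⟩
    · rcases eq_or_ne (r' * k) 0 with h0 | h0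
      · exact mul_ne_zero hr'0 hc h0
      · refine hz2 (Submodule.mem_span_singleton.2 ⟨-((r' * k)⁻¹ * (r * S.B₁ z d)), ?_⟩)
        have h1 := eq_neg_of_add_eq_zero_right e
        rw [neg_smul, mul_smul, ← smul_neg, ← h1, inv_smul_smul₀ h0]
    · have := InL.smul hM hb (InL.mul hM hb hS (hD 1 c)) (-1)
      convert this using 1
      simp only [one_smul, one_mul, mul_sub, add_mul, smul_mul_assoc, Matrix.mul_smul, S.tau_mul_tau, hzc, S.alt₁,
        zero_smul, smul_zero, S.tau_add_left, S.tau_smul_left, ← hk, ← hd]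
      module
  · refine ⟨c, c, hc0, hc0, ?_⟩
    have h1 := InL.add (hD 1 c) (InL.smul hM hb (hD s c) (-s⁻¹))
    have h2 := InL.smul hM hb h1 (((s - 1) * S.B₁ c d)⁻¹)
    convert h2 using 1
    simp only [smul_sub, smul_smul, ← hd, one_mul, one_smul]
    match_scalars <;> field_simp [sub_ne_zero.2 hs1, hs0, hc] <;> ring

theorem InL.tau_move (hM : Gen S M) {x y : Fin a → F} (h : InL S M (S.tau x y)) (t : F) (e : Fin a → F) :
    InL S M (S.tau (x + (t * S.B₁ e x) • e) (y + (t * S.B₁ e y) • e)) := by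
  convert InL.conj hM h t e using 1
  have hN : S.IsAdj (1 + t • S.tau e e) (1 - t • S.tau e e) := by
    simpa [sub_eq_add_neg, smul_neg] using
      Pair.IsAdj.add S S.isAdj_one (Pair.IsAdj.smul S (S.isAdj_tau e e) t)
  rw [mul_assoc, S.tau_mul (Pair.IsAdj.symm S hN), S.mul_tau]
  simp only [Matrix.add_mulVec, Matrix.one_mulVec, Matrix.smul_mulVec, Pair.tau_mulVec, smul_smul]

/-- Every matrix of rank one lies in the algebra. -/
theorem HasL.tau (hM : Gen S M) (hb : 6 ≤ b) (hq : 3 ≤ a ∨ ∃ t : F, t ≠ 0 ∧ t ≠ 1) (h : HasL S M)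
    (c d : Fin a → F) : InL S M (S.tau c d) := by
  obtain ⟨x, y, hx, hy, hxy⟩ := exists_tau hM hb hq h
  have hyx : InL S M (S.tau y x) := by
    have := InL.smul hM hb (InL.adj hxy (S.isAdj_tau x y)) (-1)
    simpa using this
  have hsame : InL S M (S.tau x x) := by
    by_cases hm : y ∈ Submodule.span F {x}
    · obtain ⟨r, rfl⟩ := Submodule.mem_span_singleton.1 hm
      have hr : r ≠ 0 := fun e => hy (by rw [e, zero_smul])
      have := InL.smul hM hb hxy r⁻¹
      rwa [S.tau_smul_right, smul_smul, inv_mul_cancel₀ hr, one_smul] at this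
    · obtain ⟨e, he, he'⟩ : ∃ e, S.B₁ e x = 0 ∧ S.B₁ e y ≠ 0 := by
        by_contra hcon
        push Not at hcon
        refine hm (eigen_of_forall_tau_comm (S := S) (fun z hz => ?_) hx)
        rw [S.skew₁, hcon z (by rw [S.skew₁, hz, neg_zero]), neg_zero]
      have h1 := InL.tau_move hM hyx 1 e
      rw [he, mul_zero, zero_smul, add_zero, one_mul] at h1
      have h2 := InL.smul hM hb (InL.mul hM hb hxy h1)
        (S.B₁ y (y + S.B₁ e y • e))⁻¹
      have hne : S.B₁ y (y + S.B₁ e y • e) ≠ 0 := by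
        rw [map_add, S.alt₁, zero_add, map_smul, smul_eq_mul, S.skew₁ e y, mul_neg, neg_ne_zero]
        exact mul_ne_zero he' he'
      rwa [S.tau_mul_tau, smul_smul, inv_mul_cancel₀ hne, one_smul] at h2
  have hstep : ∀ z, InL S M (S.tau z z) → ∀ w, S.B₁ z w ≠ 0 → InL S M (S.tau w w) := fun z hz w hzw => by
    have hne : S.B₁ (w - z) z ≠ 0 := by
      rw [map_sub, LinearMap.sub_apply, S.alt₁, sub_zero, S.skew₁, neg_ne_zero]; exact hzw
    have := InL.tau_move hM hz (S.B₁ (w - z) z)⁻¹ (w - z)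
    rwa [inv_mul_cancel₀ hne, one_smul, add_sub_cancel] at this
  have hlink : ∀ z w : Fin a → F, z ≠ 0 → w ≠ 0 → ∃ f, S.B₁ z f ≠ 0 ∧ S.B₁ f w ≠ 0 := fun z w hz hw => by
    obtain ⟨f₁, h₁⟩ := not_forall.1 fun h0 => hz (S.nd₁ z h0)
    obtain ⟨f₂, h₂⟩ := not_forall.1 fun h0 => hw (S.nd₁' h0)
    by_cases h3 : S.B₁ f₁ w = 0
    · by_cases h4 : S.B₁ z f₂ = 0
      · exact ⟨f₁ + f₂, by rw [map_add, h4, add_zero]; exact h₁,
          by rw [map_add, LinearMap.add_apply, h3, zero_add]; exact h₂⟩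
      · exact ⟨f₂, h4, h₂⟩
    · exact ⟨f₁, h₁, h3⟩
  have hall : ∀ w, InL S M (S.tau w w) := fun w => by
    rcases eq_or_ne w 0 with rfl | hw
    · have := InL.smul hM hb hsame 0
      rw [zero_smul] at this
      convert this using 1
      exact Matrix.ext_iff_mulVec.2 fun z => by simp [Pair.tau_mulVec]
    obtain ⟨f, h1, h2⟩ := hlink x w hx hw
    exact hstep f (hstep x hsame f h1) w h2
  have hgen : ∀ z w, S.B₁ z w ≠ 0 → InL S M (S.tau z w) := fun z w hzw => by
    have := InL.smul hM hb (InL.mul hM hb (hall z) (hall w)) (S.B₁ z w)⁻¹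
    rwa [S.tau_mul_tau, smul_smul, inv_mul_cancel₀ hzw, one_smul] at this
  by_cases hcd : S.B₁ c d = 0
  swap
  · exact hgen c d hcd
  rcases eq_or_ne c 0 with rfl | hc0
  · have := InL.smul hM hb hsame 0
    rw [zero_smul] at this
    convert this using 1
    exact Matrix.ext_iff_mulVec.2 fun z => by simp [Pair.tau_mulVec]
  rcases eq_or_ne d 0 with rfl | hd0
  · have := InL.smul hM hb hsame 0
    rw [zero_smul] at this
    convert this using 1
    exact Matrix.ext_iff_mulVec.2 fun z => by simp [Pair.tau_mulVec]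
  obtain ⟨f, hf1, hf2⟩ := hlink c d hc0 hd0
  obtain ⟨e', he1, he2⟩ := hlink f d (fun e => hf1 (by simp [e])) hd0
  have := InL.smul hM hb (InL.mul hM hb (hgen c f hf1) (hgen e' d he2)) (S.B₁ f e')⁻¹
  rwa [S.tau_mul_tau, smul_smul, inv_mul_cancel₀ he1, one_smul] at this

end Cfsg.Agent.H98.TensorSp
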