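import Cfsg.Agent.H98.TensorSp.Deficient
import Cfsg.Agent.H98.TensorGL.Coords

/-!
An element outside the stabiliser gives a non-scalar member of the algebra.
-/

set_option autoImplicit false

namespace Cfsg.Agent.H98.TensorSp

open Module Matrix Cfsg.Agent.H98.ExtField Cfsg.Agent.H98.TensorGL

variable {F : Type*} [Field F] {a b : ℕ} {S : Pair F a b} {M : Subgroup (Module.End F (T F a b))ˣ}
  {g : (Module.End F (T F a b))ˣ} {v₀ v₁ : Fin b → F}

theorem sum_pure_rows (m : T F a b) : m = ∑ i, TensorGL.pure (m i) (Pi.single i (1 : F)) :=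
  funext fun k => by simp [Finset.sum_apply, Pi.single_apply, ite_smul]

theorem ev_pure_self (S : Pair F a b) (v : Fin b → F) (u : Fin a → F) : ev (S.B₂ v) (TensorGL.pure v u) = 0 := by
  rw [ev_pure, S.alt₂, zero_smul]

/-- The exceptional case leads to an element with a large intersection that is not exceptional. -/
theorem Gen.bad_progress (hM : Gen S M) (hb : 6 ≤ b) (hg : g ∈ M) (hns : ¬ HasL S M) (hv₀ : v₀ ≠ 0)
    (hnp : NotPure ((g : Module.End F (T F a b)) ∘ₗ TensorGL.pure v₀)) {v : Fin b → F} (hv : v ≠ 0)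
    (hvP : ∀ u, ev (S.B₂ v) ((g : Module.End F (T F a b)) (TensorGL.pure v₀ u)) = 0) (hbad : Bad S g v₀ v) :
    a ≤ 2 * finrank F (coeff ((g : Module.End F (T F a b)) ∘ₗ TensorGL.pure v₀) v) ∧
      ∃ g' ∈ M, NotPure ((g' : Module.End F (T F a b)) ∘ₗ TensorGL.pure v₀) ∧
        (∃ u, ev (S.B₂ v₀) ((g' : Module.End F (T F a b)) (TensorGL.pure v₀ u)) ≠ 0) ∧
        finrank F (coeff ((g : Module.End F (T F a b)) ∘ₗ TensorGL.pure v₀) v) ≤
          finrank F (coeff ((g' : Module.End F (T F a b)) ∘ₗ TensorGL.pure v₀) v₀) := by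
  set Y := (g : Module.End F (T F a b)) ∘ₗ TensorGL.pure v₀ with hY
  set Z := (LinearMap.range (TensorGL.pure (a := a) v)).comap Y with hZ
  have hZr : finrank F Z = finrank F (coeff Y v) := finrank_comap_eq hv₀ hv
  set gi : Module.End F (T F a b) := ((g⁻¹ : (Module.End F (T F a b))ˣ) : Module.End F (T F a b)) with hgi
  have hNv : ∀ z, fam S g v₀ (TensorGL.pure v z) = 0 := fun z =>
    fam_pure_eq_zero hM hg fun u => by rw [hvP u, map_zero]
  constructor
  · set I := (LinearMap.ker (ev (a := a) (S.B₂ v))).map (ev (S.B₂ v₀) ∘ₗ gi) with hI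
    have hIZ : I ≤ Z := by
      rintro _ ⟨m, hm, rfl⟩
      show fam S g v₀ m ∈ LinearMap.range (TensorGL.pure v)
      rw [sum_pure_rows m, map_sum]
      exact Submodule.sum_mem _ fun i _ => hbad.1 _ _ (congrFun hm i)
    set O := LinearMap.ker ((LinearMap.lcomp F F I.subtype) ∘ₗ S.B₁) with hO
    have hOZ : O ≤ Z := fun u hu => mem_range_pure₂ S fun w hw => S.nd₁' fun z => by
      rw [← S.Bt_pure, S.Bt_comm, hY, LinearMap.comp_apply, fam_key hM hg]
      exact LinearMap.congr_fun (LinearMap.mem_ker.1 hu)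
        ⟨_, ⟨TensorGL.pure w z, by
          rw [SetLike.mem_coe, LinearMap.mem_ker, ev_pure, S.comm₂ hw, zero_smul], rfl⟩⟩
    have h1 := LinearMap.finrank_range_add_finrank_ker ((LinearMap.lcomp F F I.subtype) ∘ₗ S.B₁)
    have h2 := Submodule.finrank_le (LinearMap.range ((LinearMap.lcomp F F I.subtype) ∘ₗ S.B₁))
    have h3 := Submodule.finrank_mono hIZ
    have h4 := Submodule.finrank_mono hOZ
    rw [Subspace.dual_finrank_eq] at h2
    rw [finrank_fin_fun, ← hO] at h1
    omega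
  obtain ⟨v', hv', u₁, u₂, hβ⟩ : ∃ v', S.B₂ v v' = 0 ∧
      ∃ u₁ u₂, S.B₁ (ev (S.B₂ v') (Y u₁)) (ev (S.B₂ v') (Y u₂)) ≠ 0 := by
    by_contra hcon
    push Not at hcon
    have hzero : ∀ v', S.B₂ v v' = 0 → ∀ u, fam S g v₀ (TensorGL.pure v' u) = 0 := by
      intro v' hv'
      by_cases hmem : v' ∈ Submodule.span F {v}
      · obtain ⟨s, rfl⟩ := Submodule.mem_span_singleton.1 hmem
        intro u
        rw [show TensorGL.pure (s • v) u = s • TensorGL.pure v u from
          funext fun i => by simp [smul_comm s], map_smul, hNv, smul_zero]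
      set A : Module.End F (T F a b) := te (1 : Matrix (Fin a) (Fin a) F) v' (S.B₂ v') with hA
      have hA1 : MN M A := by simpa [hA] using hM.right 1 v'
      set N := fam S g v₀ with hN
      have hAa : ∀ x, A x = TensorGL.pure v' (ev (S.B₂ v') x) := fun x => by
        rw [hA, te_apply, Matrix.one_mulVec]
      have hNAN : N * A * N = 0 := LinearMap.ext fun x => by
        rw [Module.End.mul_apply, Module.End.mul_apply, hAa]
        exact fam_pure_eq_zero hM hg fun u => hcon v' hv' _ u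
      have hD := MN.twist hA1 (hM.mn_fam hg v₀) hNAN
      rw [← hN] at hD
      obtain ⟨y, hy, hyv⟩ := exists_partner S hmem 1
      have hvy : S.B₂ v y = 0 := hyv v (Submodule.mem_span_singleton_self v)
      have hyn : y ∉ Submodule.span F {v} := fun hm => by
        obtain ⟨s, rfl⟩ := Submodule.mem_span_singleton.1 hm
        rw [map_smul, S.comm₂ hv', smul_zero] at hy
        exact zero_ne_one hy
      obtain ⟨α, hα⟩ : ∃ α : Dual F (Fin b → F), α v = 1 := by
        obtain ⟨α, h1, -⟩ := Submodule.exists_le_ker_of_notMem (p := (⊥ : Submodule F (Fin b → F))) (v := v)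
          (by rw [Submodule.mem_bot]; exact hv)
        exact ⟨(α v)⁻¹ • α, by rw [LinearMap.smul_apply, smul_eq_mul, inv_mul_cancel₀ h1]⟩
      have hAz : ∀ z, A (TensorGL.pure v z) = 0 := fun z => by
        rw [hAa, ev_pure, S.comm₂ hv', zero_smul, map_zero]
      set K := LinearMap.toMatrix' (-(ev α ∘ₗ N ∘ₗ TensorGL.pure v')) with hK
      have hNK : ∀ u, N (TensorGL.pure v' u) = -TensorGL.pure v (K *ᵥ u) := fun u => by
        obtain ⟨r, hr⟩ := hbad.1 v' u hv'
        rw [hK, LinearMap.toMatrix'_mulVec, LinearMap.neg_apply, LinearMap.comp_apply, LinearMap.comp_apply,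
          map_neg, neg_neg, ← hr, ev_pure, hα, one_smul]
      by_contra hne
      refine hns (hM.of_radical hb hD hv hyn hvy (fun u => ?_) (K := K) (fun u => ?_) fun t ht => hne fun u => ?_)
      · simp only [LinearMap.sub_apply, Module.End.mul_apply, hAz, hNv, map_zero, sub_zero]
      · obtain ⟨r, hr⟩ := hbad.1 y u hvy
        rw [← hN] at hr
        simp only [LinearMap.sub_apply, Module.End.mul_apply, ← hr, hAz, hAa (TensorGL.pure y u), ev_pure, hy,
          one_smul, hNK, map_neg]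
        simp
      rcases eq_or_ne t 0 with rfl | ht0
      · rw [hNK, ht, zero_smul, Matrix.zero_mulVec, map_zero, neg_zero]
      exfalso
      refine hnp v (le_of_eq (Submodule.eq_of_le_of_finrank_eq ?_ ?_).symm)
      · rintro _ ⟨z, rfl⟩
        have h1 := hNK ((-t⁻¹) • z)
        rw [ht, Matrix.smul_mulVec, Matrix.one_mulVec, smul_smul, mul_neg, mul_inv_cancel₀ ht0, neg_one_smul,
          map_neg, neg_neg] at h1
        exact h1 ▸ ⟨_, rfl⟩
      · rw [LinearMap.finrank_range_of_inj (pure_injective hv),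
          LinearMap.finrank_range_of_inj (injective_image g hv₀)]
    obtain ⟨y, z, hy, hne⟩ := exists_fam_ne hM hg hnp v
    exact hne (hzero y hy z)
  obtain ⟨-, h, hh, hh'⟩ := hM.right 1 v'
  rw [one_smul] at hh'
  have hhv : ∀ x, (h : Module.End F (T F a b)) x = x + TensorGL.pure v' (ev (S.B₂ v') x) := fun x => by
    rw [hh', LinearMap.add_apply, Module.End.one_apply, te_apply, Matrix.one_mulVec]
  have hval : ∀ x : Fin a → F, ((g⁻¹ * h * g : (Module.End F (T F a b))ˣ) : Module.End F (T F a b))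
      (TensorGL.pure v₀ x) = gi ((h : Module.End F (T F a b)) (Y x)) := fun x => rfl
  have hfix : ∀ x ∈ Z, ((g⁻¹ * h * g : (Module.End F (T F a b))ˣ) : Module.End F (T F a b))
      (TensorGL.pure v₀ x) = TensorGL.pure v₀ x := fun x hx => by
    obtain ⟨w, hw⟩ := hx
    rw [hval, ← hw, hhv, ev_pure, S.comm₂ hv', zero_smul, map_zero, add_zero, hw, hY, LinearMap.comp_apply, hgi,
      inv_apply_apply]
  have hev : ev (S.B₂ v₀) (((g⁻¹ * h * g : (Module.End F (T F a b))ˣ) : Module.End F (T F a b))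
      (TensorGL.pure v₀ u₂)) ≠ 0 := by
    intro h0
    refine hβ ?_
    have h1 : S.Bt (Y u₁) ((h : Module.End F (T F a b)) (Y u₂)) = 0 := by
      rw [hY, LinearMap.comp_apply, LinearMap.comp_apply, fam_key hM hg]
      exact (congrArg (S.B₁ u₁) h0).trans (map_zero _)
    rw [hhv, S.Bt_add_right] at h1
    rw [show S.Bt (Y u₁) (Y u₂) = 0 by
      rw [hY, LinearMap.comp_apply, LinearMap.comp_apply, hM.iso g hg, S.Bt_pure, ev_pure_self, map_zero],
      zero_add, S.Bt_comm, S.Bt_pure, S.skew₁, neg_eq_zero] at h1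
    exact h1
  refine ⟨g⁻¹ * h * g, M.mul_mem (M.mul_mem (M.inv_mem hg) hh) hg, fun s hs => ?_, ⟨u₂, hev⟩, ?_⟩
  · obtain ⟨r, hr⟩ := hs ⟨u₂, rfl⟩
    have h1 : 0 < finrank F Z := by
      rw [Nat.pos_iff_ne_zero, Ne, Submodule.finrank_eq_zero]
      intro hbot
      obtain ⟨y, z, hy, hne⟩ := exists_fam_ne hM hg hnp v
      obtain ⟨w, hw⟩ := hbad.1 y z hy
      refine hne ?_
      have hmem : ev (S.B₂ v₀) (gi (TensorGL.pure y z)) ∈ Z := ⟨w, hw⟩
      rw [hbot, Submodule.mem_bot] at hmem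
      show Y (ev (S.B₂ v₀) (gi (TensorGL.pure y z))) = 0
      rw [hmem, map_zero]
    obtain ⟨x, hx, hx0⟩ := Submodule.exists_mem_ne_zero_of_ne_bot (fun e => by
      rw [e, finrank_bot] at h1
      exact lt_irrefl 0 h1 : Z ≠ ⊥)
    obtain ⟨w, hw⟩ := hs ⟨x, hfix x hx⟩
    obtain ⟨i, hi⟩ : ∃ i, x i ≠ 0 := Function.ne_iff.1 hx0
    have hwi : w i • s = x i • v₀ := congrFun hw i
    have hwi0 : w i ≠ 0 := fun e => hv₀ (by
      rw [e, zero_smul] at hwi
      exact (smul_eq_zero.1 hwi.symm).resolve_left hi)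
    have hs0 : S.B₂ v₀ s = 0 := by
      have h2 : s = (w i)⁻¹ • x i • v₀ := by rw [← hwi, inv_smul_smul₀ hwi0]
      rw [h2, map_smul, map_smul, S.alt₂, smul_zero, smul_zero]
    rw [LinearMap.comp_apply] at hr
    exact hev (by rw [← hr, ev_pure, hs0, zero_smul])
  · rw [← hZr]
    exact Submodule.finrank_mono fun x hx => ⟨x, hfix x hx⟩

/-- The intersections with two different columns. -/
theorem Bad.add_lt (hb : 6 ≤ b) (hv₀ : v₀ ≠ 0) (hv₁ : v₁ ≠ 0) {v : Fin b → F} (hv : v ≠ 0)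
    (hbad : Bad S g v₀ v) (hne : v₁ ∉ Submodule.span F {v}) :
    finrank F (coeff ((g : Module.End F (T F a b)) ∘ₗ TensorGL.pure v₀) v₁) +
      finrank F (coeff ((g : Module.End F (T F a b)) ∘ₗ TensorGL.pure v₀) v) < a := by
  set Y := (g : Module.End F (T F a b)) ∘ₗ TensorGL.pure v₀ with hY
  rw [← finrank_comap_eq hv₀ hv₁, ← finrank_comap_eq hv₀ hv]
  set Z₁ := (LinearMap.range (TensorGL.pure (a := a) v₁)).comap Y
  set Z₂ := (LinearMap.range (TensorGL.pure (a := a) v)).comap Y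
  have hinf : Z₁ ⊓ Z₂ = ⊥ := (Submodule.eq_bot_iff _).2 fun u hu => by
    obtain ⟨⟨r, hr⟩, r', hr'⟩ := hu
    refine injective_image g hv₀ ?_
    rw [map_zero, ← hY, ← hr]
    suffices r = 0 by rw [this, map_zero]
    refine funext fun j => by_contra fun hj => ?_
    have h1 : r j • v₁ = r' j • v := congrFun (hr.trans hr'.symm) j
    exact hne (Submodule.mem_span_singleton.2 ⟨(r j)⁻¹ * r' j, by rw [mul_smul, ← h1, inv_smul_smul₀ hj]⟩)
  have h1 := Submodule.finrank_sup_add_finrank_inf_eq Z₁ Z₂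
  rw [hinf, finrank_bot, add_zero] at h1
  rw [← h1]
  refine lt_of_lt_of_eq (Submodule.finrank_lt fun htop => ?_) (finrank_fin_fun F)
  obtain ⟨x, hx, hxn, -⟩ := exists_avoid S ![v₁, v, v] _ _
    (lt_of_le_of_lt (Nat.add_le_add_right (finrank_span_pair_le v₁ v) 3) (by omega : 2 + 3 < b))
    (lt_of_le_of_lt (Nat.add_le_add_right (finrank_span_pair_le v₁ v) 3) (by omega : 2 + 3 < b))
  refine hxn (Submodule.span_mono (by simp) (hbad.2 x fun u => ?_))
  obtain ⟨y, hy, z, hz, rfl⟩ := Submodule.mem_sup.1 (htop.ge (Submodule.mem_top (x := u)))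
  obtain ⟨r, hr⟩ := hy
  obtain ⟨r', hr'⟩ := hz
  have h0 : S.B₂ v₁ x = 0 := hx 0
  have h1 : S.B₂ v x = 0 := hx 1
  show ev (S.B₂ x) (Y (y + z)) = 0
  rw [map_add, ← hr, ← hr', map_add, ev_pure, ev_pure, S.comm₂ h0, S.comm₂ h1, zero_smul, zero_smul, add_zero]

/-- A state that is not exceptional climbs until the algebra has a non-scalar member. -/
theorem Gen.climb (hM : Gen S M) (hb : 6 ≤ b) (hab : a + 2 ≤ b) (hns : ¬ HasL S M) :
    ∀ (n : ℕ) {g : (Module.End F (T F a b))ˣ} {v₀ v₁ : Fin b → F}, g ∈ M → v₀ ≠ 0 → v₁ ≠ 0 →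
      NotPure ((g : Module.End F (T F a b)) ∘ₗ TensorGL.pure v₀) →
      (∃ u, ev (S.B₂ v₁) ((g : Module.End F (T F a b)) (TensorGL.pure v₀ u)) ≠ 0) →
      a ≤ finrank F (coeff ((g : Module.End F (T F a b)) ∘ₗ TensorGL.pure v₀) v₁) + n → False := by
  intro n
  induction n with
  | zero =>
    intro g v₀ v₁ _ hv₀ hv₁ hnp _ hk
    have := finrank_coeff_lt hv₀ hv₁ hnp
    omega
  | succ n ih =>
    intro g v₀ v₁ hg hv₀ hv₁ hnp ⟨u₀, hu₀⟩ hk
    set Y := (g : Module.End F (T F a b)) ∘ₗ TensorGL.pure v₀ with hY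
    have hnot : ∀ v : Fin b → F, (∀ u, ev (S.B₂ v) (Y u) = 0) → v₁ ∉ Submodule.span F {v} := fun v hv hm => by
      obtain ⟨s, rfl⟩ := Submodule.mem_span_singleton.1 hm
      refine hu₀ (funext fun i => ?_)
      have := congrFun (hv u₀) i
      simp only [hY, LinearMap.comp_apply, ev_apply, map_smul, LinearMap.smul_apply, Pi.zero_apply, smul_eq_mul] at this ⊢
      rw [this, mul_zero]
    have hnobad : ∀ v : Fin b → F, v ≠ 0 → ¬ ∀ u, ev (S.B₂ v) (Y u) = 0 := fun v hv hvP => by
      have hbad := hM.bad hb hg hns hv₀ hnp hv hvP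
      obtain ⟨h2, g', hg', hnp', hev', hle⟩ := hM.bad_progress hb hg hns hv₀ hnp hv hvP hbad
      have := hbad.add_lt hb hv₀ hv₁ hv (hnot v hvP)
      exact ih hg' hv₀ hv₀ hnp' hev' (by rw [← hY] at *; omega)
    have hshift : ∀ {x : Fin b → F}, S.B₂ v₁ x = 0 → ∀ {u : Fin a → F}, ev (S.B₂ x) (Y u) = 0 →
        Y u ∉ LinearMap.range (TensorGL.pure v₁) →
        ∀ m, TensorGL.pure x (ev (S.B₂ x) (Y m)) ∈ LinearMap.range Y := by
      intro x hx u hxu hu m
      by_contra hm
      obtain ⟨-, h, hh, hh'⟩ := hM.right 1 x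
      rw [one_smul] at hh'
      have hhx : ∀ y, (h : Module.End F (T F a b)) y = y + TensorGL.pure x (ev (S.B₂ x) y) := fun y => by
        rw [hh', LinearMap.add_apply, Module.End.one_apply, te_apply, Matrix.one_mulVec]
      obtain ⟨g', hg', hnp', hlt⟩ := TensorGL.shift hg hv₀ hv₁ hh hu
        (by rw [hhx]; exact add_eq_left.2 ((congrArg (TensorGL.pure x) hxu).trans (map_zero _)))
        (fun w _ => by rw [hhx, ev_pure, S.comm₂ hx, zero_smul, map_zero, add_zero]) (m := m)
        (by rw [hhx]; exact fun hc => hm ((Submodule.add_mem_iff_right _ (LinearMap.mem_range_self Y m)).1 hc))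
      rw [← hY] at hlt
      by_cases hev : ∃ u, ev (S.B₂ v₀) ((g' : Module.End F (T F a b)) (TensorGL.pure v₀ u)) ≠ 0
      · exact ih hg' hv₀ hv₀ hnp' hev (by omega)
      push Not at hev
      obtain ⟨-, g'', hg'', hnp'', hev'', hle⟩ :=
        hM.bad_progress hb hg' hns hv₀ hnp' hv₀ hev (hM.bad hb hg' hns hv₀ hnp' hv₀ hev)
      exact ih hg'' hv₀ hv₀ hnp'' hev'' (by omega)
    have hu₀' : Y u₀ ∉ LinearMap.range (TensorGL.pure v₁) := fun ⟨w, hw⟩ =>
      hu₀ ((congrArg (ev (S.B₂ v₁)) hw).symm.trans (ev_pure_self S v₁ w))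
    obtain ⟨x, hx, hx0⟩ := Submodule.exists_mem_ne_zero_of_ne_bot
      (LinearMap.ker_ne_bot_of_finrank_lt (f := (LinearMap.pi fun i => (LinearMap.flip S.B₂) (Y u₀ i)).prod (S.B₂ v₁))
        (by rw [finrank_prod, finrank_self, finrank_fin_fun, finrank_fin_fun]; omega))
    have hxu : ev (S.B₂ x) (Y u₀) = 0 := funext fun i => congrFun (congrArg Prod.fst hx) i
    have hxv : S.B₂ v₁ x = 0 := congrArg Prod.snd hx
    have hxn : x ∉ Submodule.span F {v₁} := fun hm => by
      obtain ⟨s, rfl⟩ := Submodule.mem_span_singleton.1 hm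
      have hs : s ≠ 0 := fun e => hx0 (by rw [e, zero_smul])
      refine hu₀ (funext fun i => ?_)
      have := congrFun hxu i
      simp only [hY, LinearMap.comp_apply, ev_apply, map_smul, LinearMap.smul_apply, Pi.zero_apply, smul_eq_mul] at this ⊢
      exact (mul_eq_zero.1 this).resolve_left hs
    obtain ⟨m₀, hm₀⟩ := not_forall.1 (hnobad x hx0)
    obtain ⟨u₁, hu₁⟩ := hshift hxv hxu hu₀' m₀
    have hu₁' : Y u₁ ∉ LinearMap.range (TensorGL.pure v₁) := fun ⟨w, hw⟩ => by
      obtain ⟨i, hi⟩ := Function.ne_iff.1 hm₀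
      have := congrFun (hw.trans hu₁) i
      exact hxn (Submodule.mem_span_singleton.2 ⟨(ev (S.B₂ x) (Y m₀) i)⁻¹ * w i, by
        rw [mul_smul, show w i • v₁ = ev (S.B₂ x) (Y m₀) i • x from this, inv_smul_smul₀ hi]⟩)
    let f : (Fin b → F) →ₗ[F] F × F := (S.B₂ v₁).prod (S.B₂ x)
    let bas := Module.finBasis F (LinearMap.ker f)
    have hpure : ∀ j, ∃ u y, y ≠ 0 ∧ Y u = TensorGL.pure ((bas j : LinearMap.ker f) : Fin b → F) y := fun j => by
      set e : Fin b → F := ((bas j : LinearMap.ker f) : Fin b → F) with he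
      have he0 : e ≠ 0 := fun h => bas.ne_zero j (Subtype.ext h)
      have he1 : S.B₂ v₁ e = 0 := congrArg Prod.fst (bas j).2
      have he2 : S.B₂ x e = 0 := congrArg Prod.snd (bas j).2
      obtain ⟨m, hm⟩ := not_forall.1 (hnobad e he0)
      obtain ⟨u, hu⟩ := hshift he1 (u := u₁) (by rw [hu₁, ev_pure, S.comm₂ he2, zero_smul]) hu₁' m
      exact ⟨u, _, hm, hu⟩
    choose u y hy hu using hpure
    have hli : LinearIndependent F u := by
      refine Fintype.linearIndependent_iff.2 fun c hc j => ?_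
      have h1 := congrArg Y hc
      simp only [map_sum, map_smul, map_zero, hu] at h1
      obtain ⟨i, hi⟩ := Function.ne_iff.1 (hy j)
      have h2 : ∑ k, (c k * y k i) • bas k = 0 := by
        refine Subtype.ext ?_
        have := congrFun h1 i
        simp only [Finset.sum_apply, Pi.smul_apply, TensorGL.pure_apply, Pi.zero_apply, smul_smul] at this
        simpa using this
      exact (mul_eq_zero.1 (Fintype.linearIndependent_iff.1 bas.linearIndependent _ h2 j)).resolve_right hi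
    have htop : Submodule.span F (Set.range u) = ⊤ := by
      refine Submodule.eq_top_of_finrank_eq (le_antisymm (Submodule.finrank_le _) ?_)
      rw [finrank_span_eq_card hli, Fintype.card_fin, finrank_fin_fun]
      have h1 := LinearMap.finrank_range_add_finrank_ker f
      have h2 := Submodule.finrank_le (LinearMap.range f)
      rw [finrank_fin_fun] at h1
      rw [finrank_prod, finrank_self] at h2
      omega
    refine hu₀ ?_
    have hle : Submodule.span F (Set.range u) ≤ LinearMap.ker (ev (S.B₂ v₁) ∘ₗ Y) := by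
      rw [Submodule.span_le]
      rintro _ ⟨j, rfl⟩
      rw [SetLike.mem_coe, LinearMap.mem_ker, LinearMap.comp_apply, hu, ev_pure,
        show S.B₂ v₁ _ = 0 from congrArg Prod.fst (bas j).2, zero_smul]
    exact hle (htop ▸ Submodule.mem_top)

/-- An element outside the stabiliser gives a non-scalar member of the algebra. -/
theorem Gen.hasL (hM : Gen S M) (hb : 6 ≤ b) (hab : a + 2 ≤ b) (hg : g ∈ M) (hv₀ : v₀ ≠ 0)
    (hnp : NotPure ((g : Module.End F (T F a b)) ∘ₗ TensorGL.pure v₀)) : HasL S M := by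
  by_contra hns
  by_cases hev : ∃ u, ev (S.B₂ v₀) ((g : Module.End F (T F a b)) (TensorGL.pure v₀ u)) ≠ 0
  · exact hM.climb hb hab hns a hg hv₀ hv₀ hnp hev (Nat.le_add_left _ _)
  push Not at hev
  obtain ⟨-, g', hg', hnp', hev', -⟩ :=
    hM.bad_progress hb hg hns hv₀ hnp hv₀ hev (hM.bad hb hg hns hv₀ hnp hv₀ hev)
  exact hM.climb hb hab hns a hg' hv₀ hv₀ hnp' hev' (Nat.le_add_left _ _)

end Cfsg.Agent.H98.TensorSp
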