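import Cfsg.Agent.H98.TensorSp.AllL

/-!
An image whose support is deficient gives a non-scalar member of the algebra, or a shift to a larger intersection.
-/

set_option autoImplicit false

namespace Cfsg.Agent.H98.TensorSp

open Module Matrix Cfsg.Agent.H98.ExtField Cfsg.Agent.H98.TensorGL

variable {F : Type*} [Field F] {a b : ℕ} {S : Pair F a b} {M : Subgroup (Module.End F (T F a b))ˣ}

theorem mn_skew (hM : Gen S M) {D : Module.End F (T F a b)} (hD : MN M D) (x y : T F a b) :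
    S.Bt (D x) y + S.Bt x (D y) + S.Bt (D x) (D y) = 0 := by
  obtain ⟨-, u, hu, huD⟩ := hD
  have := hM.iso u hu x y
  simp only [huD, LinearMap.add_apply, Module.End.one_apply, S.Bt_add_left, S.Bt_add_right] at this
  linear_combination this

/-- An element of the radical attached to `v` that is not a tensor. -/
theorem Gen.of_radical (hM : Gen S M) (hb : 6 ≤ b) {D : Module.End F (T F a b)} (hD : MN M D)
    {v v' : Fin b → F} (hv : v ≠ 0) (hv' : v' ∉ Submodule.span F {v}) (hvv' : S.B₂ v v' = 0)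
    (hD0 : ∀ u, D (TensorGL.pure v u) = 0) {K : Matrix (Fin a) (Fin a) F}
    (hK : ∀ u, D (TensorGL.pure v' u) = TensorGL.pure v (K *ᵥ u)) (hns : ∀ t : F, K ≠ t • 1) :
    HasL S M := by
  obtain ⟨K', hadj⟩ := S.exists_adj K
  have hvD : ∀ x, ev (S.B₂ v) (D x) = 0 := fun x => S.nd₁' fun u => by
    have := mn_skew hM hD x (TensorGL.pure v u)
    rwa [hD0, S.Bt_comm x, S.Bt_zero_left, S.Bt_comm (D x) 0, S.Bt_zero_left, add_zero, add_zero, S.Bt_comm,
      S.Bt_pure] at this
  have hv'D : ∀ x, ev (S.B₂ v') (D x) = -(K' *ᵥ ev (S.B₂ v) x) := fun x =>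
    eq_neg_of_add_eq_zero_left (S.nd₁' fun u => by
      have := mn_skew hM hD x (TensorGL.pure v' u)
      rw [hK, S.Bt_comm (D x), S.Bt_pure, S.Bt_comm x, S.Bt_pure, hadj, S.Bt_comm (D x), S.Bt_pure, hvD, map_zero,
        add_zero] at this
      rw [map_add]
      exact this)
  set H : Module.End F (T F a b) := te (1 : Matrix (Fin a) (Fin a) F) v' (S.B₂ v') with hH
  have hH1 : MN M H := by simpa [hH] using hM.right 1 v'
  have hHD : H * D = te (-K') v' (S.B₂ v) := LinearMap.ext fun x => by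
    rw [Module.End.mul_apply, hH, te_apply, te_apply, hv'D, Matrix.one_mulVec, Matrix.neg_mulVec]
  have hDH : D * H = te K v (S.B₂ v') := LinearMap.ext fun x => by
    rw [Module.End.mul_apply, hH, te_apply, te_apply, hK, Matrix.one_mulVec]
  have hHDH : H * D * H = 0 := by rw [hHD, hH, te_mul_te, hvv', zero_smul]
  have hDHD : D * H * D = te (-(K * K')) v (S.B₂ v) := LinearMap.ext fun x => by
    rw [hDH, Module.End.mul_apply, te_apply, te_apply, hv'D, Matrix.mulVec_neg, Matrix.neg_mulVec,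
      Matrix.mulVec_mulVec]
  obtain ⟨hH2, u, hu, huH⟩ := hH1
  have hD2 := hD.1
  obtain ⟨-, d, hd, hdD⟩ := hD
  set C : Module.End F (T F a b) := te (-K') v' (S.B₂ v) - te K v (S.B₂ v') + te (-(K * K')) v (S.B₂ v) with hC
  have hC1 : MN M C := by
    refine ⟨by simp [hC, add_mul, mul_add, sub_mul, mul_sub, te_mul_te, hvv', S.comm₂ hvv', S.alt₂],
      u * d * u⁻¹ * d⁻¹, M.mul_mem (M.mul_mem (M.mul_mem hu hd) (M.inv_mem hu)) (M.inv_mem hd), ?_⟩
    rw [Units.val_mul, Units.val_mul, Units.val_mul, coe_inv_of_eq hH2 huH, coe_inv_of_eq hD2 hdD, huH, hdD]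
    have expand : (1 + H) * (1 + D) * (1 - H) * (1 - D) = 1 + (H * D - D * H - H * D * H + D * H * D +
        H * D * H * D) - H * H * (1 - D) - D * D - H * (D * D) := by
      simp only [add_mul, mul_add, sub_mul, mul_sub, one_mul, mul_one, mul_assoc]
      abel
    rw [expand, hH2, hD2, hHDH, hDHD, hHD, hDH, hC]
    simp only [zero_mul, mul_zero, sub_zero, add_zero]
  have hu' : ∃ x, S.B₂ v x = 0 ∧ S.B₂ v' x = 0 ∧ x ∉ Submodule.span F {v, v'} := by
    obtain ⟨x, hx, hx', -⟩ := exists_avoid S ![v, v', v] _ _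
      (lt_of_le_of_lt (Nat.add_le_add_right (finrank_span_pair_le v v') 3) (by omega))
      (lt_of_le_of_lt (Nat.add_le_add_right (finrank_span_pair_le v v') 3) (by omega))
    exact ⟨x, hx 0, hx 1, hx'⟩
  obtain ⟨x, hvx, hv'x, hxn⟩ := hu'
  have hv'n : v' ∉ Submodule.span F {v, x} := fun hm => by
    obtain ⟨s, t, hst⟩ := Submodule.mem_span_pair.1 hm
    rcases eq_or_ne t 0 with rfl | ht
    · exact hv' (Submodule.mem_span_singleton.2 ⟨s, by simpa using hst⟩)
    · exact hxn (Submodule.mem_span_pair.2 ⟨-(t⁻¹ * s), t⁻¹, by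
        rw [← hst, smul_add, smul_smul, smul_smul, inv_mul_cancel₀ ht, one_smul, neg_smul]; abel⟩)
  obtain ⟨w, hw, hz⟩ := exists_partner S hv'n 1
  have hvw : S.B₂ v w = 0 := hz v (Submodule.subset_span (by simp))
  have hxw : S.B₂ x w = 0 := hz x (Submodule.subset_span (by simp))
  have hB := hM.siegel 1 (S.comm₂ hxw)
  rw [one_smul] at hB
  have e1 : C * S.sk 1 1 w x = -te K v (S.B₂ x) := LinearMap.ext fun m => by
    simp [hC, Pair.sk, te_apply, ev_pure, hvw, hvx, hv'x, hw]
  have e2 : S.sk 1 1 w x * C = te K' x (S.B₂ v) := LinearMap.ext fun m => by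
    simp [hC, Pair.sk, te_apply, ev_pure, S.comm₂ hvw, S.comm₂ hvx, S.comm₂ hv'x, S.skew₂ v' w, hw,
      Matrix.neg_mulVec]
  have h3 := MN.bracket hC1 hB
    (by rw [e1]; exact LinearMap.ext fun m => by simp [hC, te_apply, ev_pure, S.comm₂ hvx, S.comm₂ hv'x])
    (by rw [e2]; exact LinearMap.ext fun m => by simp [Pair.sk, te_apply, ev_pure, hvw, hvx])
  rw [e1, e2] at h3
  have h4 : MN M (S.sk K K' v x) := by
    convert h3.neg using 1
    refine LinearMap.ext fun m => ?_
    simp [Pair.sk, add_comm]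
  have hx : x ∉ Submodule.span F {v} := fun h => hxn (Submodule.span_mono (by simp) h)
  exact ⟨(1 : F) • K, hM.inL hb hadj hv hx h4 1, fun t => by rw [one_smul]; exact hns t⟩

/-- The family member attached to `g` and `v₀`. -/
noncomputable def fam (S : Pair F a b) (g : (Module.End F (T F a b))ˣ) (v₀ : Fin b → F) : Module.End F (T F a b) :=
  ((g : Module.End F (T F a b)) ∘ₗ TensorGL.pure v₀) ∘ₗ ev (S.B₂ v₀) ∘ₗ
    ((g⁻¹ : (Module.End F (T F a b))ˣ) : Module.End F (T F a b))

variable {g : (Module.End F (T F a b))ˣ} {v₀ : Fin b → F}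

theorem Gen.mn_fam (hM : Gen S M) (hg : g ∈ M) (v₀ : Fin b → F) : MN M (fam S g v₀) := by
  have := hM.right 1 v₀
  rw [one_smul] at this
  convert this.conj hg using 1
  exact LinearMap.ext fun x => by simp [fam, te_apply]

theorem fam_key (hM : Gen S M) (hg : g ∈ M) (u : Fin a → F) (m : T F a b) :
    S.Bt ((g : Module.End F (T F a b)) (TensorGL.pure v₀ u)) m =
      S.B₁ u (ev (S.B₂ v₀) (((g⁻¹ : (Module.End F (T F a b))ˣ) : Module.End F (T F a b)) m)) := by
  rw [← S.Bt_pure, ← hM.iso g hg (TensorGL.pure v₀ u), apply_inv_apply]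

theorem fam_eq_zero (hM : Gen S M) (hg : g ∈ M) {m : T F a b}
    (h : ∀ u, S.Bt ((g : Module.End F (T F a b)) (TensorGL.pure v₀ u)) m = 0) : fam S g v₀ m = 0 := by
  show ((g : Module.End F (T F a b)) ∘ₗ TensorGL.pure v₀) (ev (S.B₂ v₀) _) = 0
  rw [show ev (S.B₂ v₀) _ = 0 from S.nd₁' fun u => by rw [← fam_key hM hg]; exact h u, map_zero]

theorem fam_pure_eq_zero (hM : Gen S M) (hg : g ∈ M) {w : Fin b → F} {z : Fin a → F}
    (h : ∀ u, S.B₁ z (ev (S.B₂ w) ((g : Module.End F (T F a b)) (TensorGL.pure v₀ u))) = 0) :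
    fam S g v₀ (TensorGL.pure w z) = 0 :=
  fam_eq_zero hM hg fun u => by rw [S.Bt_comm, S.Bt_pure]; exact h u

theorem mem_range_pure₂ (S : Pair F a b) {v : Fin b → F} {m : T F a b}
    (h : ∀ w, S.B₂ w v = 0 → ev (S.B₂ w) m = 0) : m ∈ LinearMap.range (TensorGL.pure v) :=
  TensorGL.mem_range_pure fun φ hφ => by
    obtain ⟨w, rfl⟩ := S.rep₂ φ
    exact h w hφ

theorem mem_pair (S : Pair F a b) {y z c : Fin b → F}
    (h : ∀ x, S.B₂ x y = 0 → S.B₂ x z = 0 → S.B₂ x c = 0) : c ∈ Submodule.span F {y, z} := by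
  by_contra hc
  obtain ⟨φ, hφ, hle⟩ := Submodule.exists_le_ker_of_notMem hc
  obtain ⟨w, rfl⟩ := S.rep₂ φ
  exact hφ (h w (hle (Submodule.subset_span (by simp))) (hle (Submodule.subset_span (by simp))))

/-- When `v` is orthogonal to the support, the family member maps `v^⊥` into pure tensors or into a plane. -/
theorem Gen.scalar_case (hM : Gen S M) (hb : 6 ≤ b) (hg : g ∈ M) (hns : ¬ HasL S M) {v : Fin b → F} (hv : v ≠ 0)
    (hvP : ∀ u, ev (S.B₂ v) ((g : Module.End F (T F a b)) (TensorGL.pure v₀ u)) = 0)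
    (v' : Fin b → F) (hvv' : S.B₂ v v' = 0) :
    ∃ z : Fin b → F, ∀ u, fam S g v₀ (TensorGL.pure v' u) - TensorGL.pure z u ∈
      LinearMap.range (TensorGL.pure v) := by
  have hNv : ∀ z, fam S g v₀ (TensorGL.pure v z) = 0 := fun z =>
    fam_pure_eq_zero hM hg fun u => by rw [hvP u, map_zero]
  by_cases hmem : v' ∈ Submodule.span F {v}
  · obtain ⟨s, rfl⟩ := Submodule.mem_span_singleton.1 hmem
    refine ⟨0, fun u => ⟨0, ?_⟩⟩
    rw [show TensorGL.pure (s • v) u = s • TensorGL.pure v u from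
      funext fun i => by simp [smul_comm s], map_smul, hNv, smul_zero, map_zero]
    exact funext fun i => by simp
  have hvN : ∀ x, ev (S.B₂ v) (fam S g v₀ x) = 0 := fun x => hvP _
  have hscal : ∀ w, S.B₂ v w = 0 → ∃ t : F, ∀ u, ev (S.B₂ w) (fam S g v₀ (TensorGL.pure v' u)) = t • u := by
    intro w hw
    have hA := hM.siegel 1 hw
    rw [one_smul] at hA
    set A := S.sk 1 1 v w with hAdef
    set N := fam S g v₀ with hN
    have hA' : ∀ x, A x = TensorGL.pure v (ev (S.B₂ w) x) + TensorGL.pure w (ev (S.B₂ v) x) := fun x => by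
      simp [hAdef, Pair.sk, te_apply]
    have hAN : ∀ x, A (N x) = TensorGL.pure v (ev (S.B₂ w) (N x)) := fun x => by
      rw [hA', hvN, map_zero, add_zero]
    have hNAN : N * A * N = 0 := LinearMap.ext fun x => by
      rw [Module.End.mul_apply, Module.End.mul_apply, hAN, hNv, LinearMap.zero_apply]
    have hD := MN.twist hA (hM.mn_fam hg v₀) hNAN
    rw [← hN] at hD
    set K := LinearMap.toMatrix' (ev (S.B₂ w) ∘ₗ N ∘ₗ TensorGL.pure v') with hKdef
    have hAp : ∀ x, S.B₂ v x = 0 → ∀ u, A (TensorGL.pure x u) = TensorGL.pure v (S.B₂ w x • u) := fun x hx u => by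
      rw [hA', ev_pure, ev_pure, hx, zero_smul, map_zero, add_zero]
    by_contra hne
    refine hns (hM.of_radical hb hD hv hmem hvv' (fun u => ?_) (K := K) (fun u => ?_) fun t ht => hne ⟨t, fun u => ?_⟩)
    · simp only [LinearMap.sub_apply, Module.End.mul_apply, hAp v (S.alt₂ v), hNv, map_zero, sub_zero]
    · simp only [LinearMap.sub_apply, Module.End.mul_apply, hAp v' hvv', hNv, map_zero, sub_zero, hAN, hKdef,
        LinearMap.toMatrix'_mulVec, LinearMap.comp_apply]
    · have := LinearMap.toMatrix'_mulVec (ev (S.B₂ w) ∘ₗ N ∘ₗ TensorGL.pure v') u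
      rw [← hKdef, ht, Matrix.smul_mulVec, Matrix.one_mulVec] at this
      exact this.symm
  rcases isEmpty_or_nonempty (Fin a) with he | ⟨⟨i⟩⟩
  · exact ⟨0, fun u => ⟨0, Subsingleton.elim _ _⟩⟩
  refine ⟨fam S g v₀ (TensorGL.pure v' (Pi.single i 1)) i, fun u => mem_range_pure₂ S fun w hw => ?_⟩
  obtain ⟨t, ht⟩ := hscal w (S.comm₂ hw)
  have h1 := congrFun (ht (Pi.single i 1)) i
  simp only [ev_apply, Pi.smul_apply, Pi.single_eq_same, smul_eq_mul, mul_one] at h1
  rw [map_sub, ht, ev_pure, h1, sub_self]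

/-- The family member maps some tensor orthogonal to `x` to a non-zero element. -/
theorem exists_fam_ne (hM : Gen S M) (hg : g ∈ M) (hnp : NotPure ((g : Module.End F (T F a b)) ∘ₗ TensorGL.pure v₀))
    (x : Fin b → F) : ∃ y z, S.B₂ x y = 0 ∧ fam S g v₀ (TensorGL.pure y z) ≠ 0 := by
  by_contra hcon
  push Not at hcon
  refine hnp x ?_
  rintro _ ⟨u, rfl⟩
  refine mem_range_pure₂ S fun w hw => S.nd₁' fun z => ?_
  have h1 := hcon w z (S.comm₂ hw)
  rw [LinearMap.comp_apply, ← S.Bt_pure, S.Bt_comm, fam_key hM hg]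
  rw [fam] at h1
  simp only [LinearMap.comp_apply] at h1
  rcases eq_or_ne v₀ 0 with rfl | hv₀
  · rw [show ev (S.B₂ 0) _ = 0 from funext fun i => by simp, map_zero]
  · rw [pure_injective hv₀ ((units_injective g (h1.trans (map_zero _).symm)).trans (map_zero _).symm), map_zero]

/-- The exceptional case of a deficient support. -/
def Bad (S : Pair F a b) (g : (Module.End F (T F a b))ˣ) (v₀ v : Fin b → F) : Prop :=
  (∀ y z, S.B₂ v y = 0 → fam S g v₀ (TensorGL.pure y z) ∈ LinearMap.range (TensorGL.pure v)) ∧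
    ∀ x, (∀ u, ev (S.B₂ x) ((g : Module.End F (T F a b)) (TensorGL.pure v₀ u)) = 0) → x ∈ Submodule.span F {v}

theorem Gen.bad (hM : Gen S M) (hb : 6 ≤ b) (hg : g ∈ M) (hns : ¬ HasL S M) (hv₀ : v₀ ≠ 0)
    (hnp : NotPure ((g : Module.End F (T F a b)) ∘ₗ TensorGL.pure v₀)) {v : Fin b → F} (hv : v ≠ 0)
    (hvP : ∀ u, ev (S.B₂ v) ((g : Module.End F (T F a b)) (TensorGL.pure v₀ u)) = 0) : Bad S g v₀ v := by
  set Y := (g : Module.End F (T F a b)) ∘ₗ TensorGL.pure v₀ with hY
  have hNY : ∀ m, fam S g v₀ m ∈ LinearMap.range Y := fun m => ⟨_, rfl⟩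
  have halt : ∀ x, (∀ u, ev (S.B₂ x) (Y u) = 0) → x ≠ 0 →
      (∀ y z, S.B₂ x y = 0 → fam S g v₀ (TensorGL.pure y z) ∈ LinearMap.range (TensorGL.pure x)) ∨
        ∃ z, ∀ u i, Y u i ∈ Submodule.span F {z, x} := by
    intro x hxP hx
    by_cases hz : ∀ y, S.B₂ x y = 0 → ∀ z, fam S g v₀ (TensorGL.pure y z) ∈ LinearMap.range (TensorGL.pure x)
    · exact Or.inl fun y z hy => hz y hy z
    push Not at hz
    obtain ⟨y, hy, z₀, hz₀⟩ := hz
    obtain ⟨z, hzz⟩ := hM.scalar_case hb hg hns hx hxP y hy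
    have hzx : z ∉ Submodule.span F {x} := fun hm => by
      obtain ⟨s, rfl⟩ := Submodule.mem_span_singleton.1 hm
      obtain ⟨r, hr⟩ := hzz z₀
      exact hz₀ ⟨r + s • z₀, by
        rw [map_add, hr, show TensorGL.pure x (s • z₀) = TensorGL.pure (s • x) z₀ from
          funext fun i => by simp [smul_smul, mul_comm], sub_add_cancel]⟩
    refine Or.inr ⟨z, fun u i => ?_⟩
    set Z := fam S g v₀ ∘ₗ TensorGL.pure y with hZ
    have hZinj : Function.Injective Z := (injective_iff_map_eq_zero Z).2 fun w hw => by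
      obtain ⟨r, hr⟩ := hzz w
      rw [show fam S g v₀ (TensorGL.pure y w) = 0 from hw, zero_sub] at hr
      refine funext fun j => ?_
      by_contra hj
      have h1 := congrFun hr j
      rw [TensorGL.pure_apply, Pi.neg_apply, TensorGL.pure_apply] at h1
      refine hzx (Submodule.mem_span_singleton.2 ⟨-((w j)⁻¹ * r j), ?_⟩)
      rw [neg_smul, mul_smul, h1, smul_neg, neg_neg, inv_smul_smul₀ hj]
    have heq : LinearMap.range Z = LinearMap.range Y := Submodule.eq_of_le_of_finrank_eq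
      (by rintro _ ⟨w, rfl⟩; exact hNY _)
      (by rw [LinearMap.finrank_range_of_inj hZinj, LinearMap.finrank_range_of_inj (injective_image g hv₀)])
    obtain ⟨w, hw⟩ := heq.ge ⟨u, rfl⟩
    obtain ⟨r, hr⟩ := hzz w
    refine Submodule.mem_span_pair.2 ⟨w i, r i, ?_⟩
    have h1 := congrFun hr i
    rw [TensorGL.pure_apply, Pi.sub_apply, TensorGL.pure_apply] at h1
    rw [← hw, hZ, LinearMap.comp_apply, h1, add_sub_cancel]
  have hplane : ∀ y z : Fin b → F, ¬ ∀ u i, Y u i ∈ Submodule.span F {y, z} := by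
    intro y z hYyz
    have hle := lt_of_le_of_lt (Nat.add_le_add_right (finrank_span_pair_le y z) 3) (show 2 + 3 < b by omega)
    obtain ⟨x, hx, hxn, -⟩ := exists_avoid S ![y, z, y] _ _ hle hle
    have hxP : ∀ u, ev (S.B₂ x) (Y u) = 0 := fun u => funext fun i => by
      obtain ⟨s, t, hst⟩ := Submodule.mem_span_pair.1 (hYyz u i)
      simp only [ev_apply, Pi.zero_apply]
      have h0 : S.B₂ y x = 0 := hx 0
      have h1 : S.B₂ z x = 0 := hx 1
      rw [← hst, map_add, map_smul, map_smul, S.comm₂ h0, S.comm₂ h1, smul_zero, smul_zero, add_zero]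
    have hx0 : x ≠ 0 := fun e => hxn (e ▸ Submodule.zero_mem _)
    rcases halt x hxP hx0 with h | ⟨z', hz'⟩
    · obtain ⟨y', z₀, hy', hne⟩ := exists_fam_ne hM hg hnp x
      obtain ⟨r, hr⟩ := h y' z₀ hy'
      obtain ⟨u, hu⟩ := hNY (TensorGL.pure y' z₀)
      obtain ⟨i, hi⟩ : ∃ i, r i ≠ 0 := Function.ne_iff.1 fun e => hne (by rw [← hr, show r = 0 from e, map_zero])
      refine hxn ((Submodule.smul_mem_iff _ hi).1 ?_)
      have := hYyz u i
      rwa [hu, ← hr] at this
    · obtain ⟨s, hs⟩ : ∃ s, Submodule.span F {y, z} ⊓ Submodule.span F {z', x} ≤ Submodule.span F {s} := by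
        have hlt : Submodule.span F {y, z} ⊓ Submodule.span F {z', x} < Submodule.span F {z', x} :=
          lt_of_le_not_ge inf_le_right fun h => hxn (h (Submodule.subset_span (by simp))).1
        have h1 := Submodule.finrank_lt_finrank_of_lt hlt
        have h2 := finrank_span_pair_le z' x
        by_cases hbot : Submodule.span F {y, z} ⊓ Submodule.span F {z', x} = ⊥
        · exact ⟨0, by rw [hbot]; exact bot_le⟩
        obtain ⟨s, hs, hs0⟩ := Submodule.exists_mem_ne_zero_of_ne_bot hbot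
        refine ⟨s, le_of_eq (Submodule.eq_of_le_of_finrank_le ((Submodule.span_singleton_le_iff_mem _ _).2 hs)
          ?_).symm⟩
        rw [finrank_span_singleton hs0]
        omega
      refine hnp s ?_
      rintro _ ⟨u, rfl⟩
      choose c hc using fun i => Submodule.mem_span_singleton.1 (hs ⟨hYyz u i, hz' u i⟩)
      exact ⟨c, funext fun i => hc i⟩
  have hU : ∀ x, (∀ u, ev (S.B₂ x) (Y u) = 0) → x ≠ 0 →
      ∀ y z, S.B₂ x y = 0 → fam S g v₀ (TensorGL.pure y z) ∈ LinearMap.range (TensorGL.pure x) :=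
    fun x hxP hx => (halt x hxP hx).resolve_right fun ⟨z, hz⟩ => hplane z x hz
  refine ⟨hU v hvP hv, fun x hxP => by_contra fun hxn => hplane v x fun u i => mem_pair S fun y hy hy' => ?_⟩
  have hx : x ≠ 0 := fun e => hxn (e ▸ Submodule.zero_mem _)
  have h0 : ∀ z, fam S g v₀ (TensorGL.pure y z) = 0 := fun z => by
    obtain ⟨r, hr⟩ := hU v hvP hv y z (S.comm₂ hy)
    obtain ⟨r', hr'⟩ := hU x hxP hx y z (S.comm₂ hy')
    rw [← hr]
    suffices r = 0 by rw [this, map_zero]
    refine funext fun j => by_contra fun hj => ?_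
    have h1 : r j • v = r' j • x := congrFun (hr.trans hr'.symm) j
    rcases eq_or_ne (r' j) 0 with h2 | h2
    · rw [h2, zero_smul] at h1
      exact hv ((smul_eq_zero.1 h1).resolve_left hj)
    · exact hxn (Submodule.mem_span_singleton.2 ⟨(r' j)⁻¹ * r j, by rw [mul_smul, h1, inv_smul_smul₀ h2]⟩)
  have h2 : ev (S.B₂ y) (Y u) = 0 := S.nd₁' fun z => by
    have h1 := h0 z
    rw [fam] at h1
    simp only [LinearMap.comp_apply] at h1
    rw [← S.Bt_pure, S.Bt_comm, hY, LinearMap.comp_apply, fam_key hM hg,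
      pure_injective hv₀ ((units_injective g (h1.trans (map_zero _).symm)).trans (map_zero _).symm), map_zero]
  exact congrFun h2 i

end Cfsg.Agent.H98.TensorSp
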