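import Cfsg.Agent.H98.TensorGL.Basic

/-!
A product of two non-degenerate alternating forms on a tensor product, and its rank two skew maps.
-/

set_option autoImplicit false

namespace Cfsg.Agent.H98.TensorSp

open Module Matrix Cfsg.Agent.H98.ExtField Cfsg.Agent.H98.TensorGL

variable {F : Type*} [Field F] {a b : ℕ}

/-- Two non-degenerate alternating forms. -/
structure Pair (F : Type*) [Field F] (a b : ℕ) where
  B₁ : (Fin a → F) →ₗ[F] (Fin a → F) →ₗ[F] F
  B₂ : (Fin b → F) →ₗ[F] (Fin b → F) →ₗ[F] F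
  alt₁ : ∀ x, B₁ x x = 0
  nd₁ : ∀ x, (∀ y, B₁ x y = 0) → x = 0
  alt₂ : ∀ x, B₂ x x = 0
  nd₂ : ∀ x, (∀ y, B₂ x y = 0) → x = 0

namespace Pair

variable (S : Pair F a b)

theorem skew₁ (x y : Fin a → F) : S.B₁ y x = -S.B₁ x y := by
  have h := S.alt₁ (x + y)
  simp only [map_add, LinearMap.add_apply, S.alt₁, zero_add, add_zero] at h
  exact eq_neg_of_add_eq_zero_left h

theorem skew₂ (x y : Fin b → F) : S.B₂ y x = -S.B₂ x y := by
  have h := S.alt₂ (x + y)
  simp only [map_add, LinearMap.add_apply, S.alt₂, zero_add, add_zero] at h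
  exact eq_neg_of_add_eq_zero_left h

theorem comm₂ {x y : Fin b → F} (h : S.B₂ x y = 0) : S.B₂ y x = 0 := by rw [S.skew₂, h, neg_zero]

theorem nd₁' {x : Fin a → F} (h : ∀ y, S.B₁ y x = 0) : x = 0 :=
  S.nd₁ x fun y => by rw [S.skew₁, h, neg_zero]

theorem rep₁ (φ : Dual F (Fin a → F)) : ∃ w, S.B₁ w = φ :=
  (LinearMap.injective_iff_surjective_of_finrank_eq_finrank
    (by rw [Subspace.dual_finrank_eq])).1
    ((injective_iff_map_eq_zero _).2 fun x hx => S.nd₁ x fun y => LinearMap.congr_fun hx y) φ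

theorem rep₂ (φ : Dual F (Fin b → F)) : ∃ w, S.B₂ w = φ :=
  (LinearMap.injective_iff_surjective_of_finrank_eq_finrank
    (by rw [Subspace.dual_finrank_eq])).1
    ((injective_iff_map_eq_zero _).2 fun x hx => S.nd₂ x fun y => LinearMap.congr_fun hx y) φ

theorem B₂_ne_zero {v : Fin b → F} (hv : v ≠ 0) : S.B₂ v ≠ 0 := fun h =>
  hv (S.nd₂ v fun y => by rw [h]; rfl)

/-- Coordinates of a bilinear form. -/
theorem B₁_sum (u w : Fin a → F) :
    S.B₁ u w = ∑ i, ∑ k, u i * S.B₁ (Pi.single i 1) (Pi.single k 1) * w k := by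
  conv_lhs => rw [pi_eq_sum_univ' u, pi_eq_sum_univ' w]
  simp only [map_sum, map_smul, LinearMap.sum_apply, LinearMap.smul_apply, smul_eq_mul, Finset.mul_sum]
  rw [Finset.sum_comm]
  exact Finset.sum_congr rfl fun i _ => Finset.sum_congr rfl fun k _ => by ring

/-- The product form. -/
def Bt (x y : T F a b) : F := ∑ i, ∑ k, S.B₁ (Pi.single i 1) (Pi.single k 1) * S.B₂ (x i) (y k)

theorem Bt_comm (x y : T F a b) : S.Bt x y = S.Bt y x := by
  rw [Bt, Bt, Finset.sum_comm]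
  exact Finset.sum_congr rfl fun i _ => Finset.sum_congr rfl fun k _ => by
    rw [S.skew₁, S.skew₂ (y i) (x k)]; ring

theorem Bt_add_left (x y z : T F a b) : S.Bt (x + y) z = S.Bt x z + S.Bt y z := by
  simp [Bt, mul_add, Finset.sum_add_distrib]

theorem Bt_add_right (x y z : T F a b) : S.Bt x (y + z) = S.Bt x y + S.Bt x z := by
  simp [Bt, mul_add, Finset.sum_add_distrib]

theorem Bt_zero_left (y : T F a b) : S.Bt 0 y = 0 := by simp [Bt]

theorem Bt_pure (v : Fin b → F) (u : Fin a → F) (y : T F a b) :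
    S.Bt (TensorGL.pure v u) y = S.B₁ u (ev (S.B₂ v) y) := by
  rw [Bt, S.B₁_sum]
  refine Finset.sum_congr rfl fun i _ => Finset.sum_congr rfl fun k _ => ?_
  simp only [TensorGL.pure_apply, map_smul, LinearMap.smul_apply, ev_apply, smul_eq_mul]
  ring

theorem Bt_pure_pure (v w : Fin b → F) (u z : Fin a → F) :
    S.Bt (TensorGL.pure v u) (TensorGL.pure w z) = S.B₂ v w * S.B₁ u z := by
  rw [S.Bt_pure, ev_pure, map_smul, smul_eq_mul]

/-- Adjointness with respect to the first form. -/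
def IsAdj (K K' : Matrix (Fin a) (Fin a) F) : Prop := ∀ x y, S.B₁ (K *ᵥ x) y = S.B₁ x (K' *ᵥ y)

theorem IsAdj.symm {K K' : Matrix (Fin a) (Fin a) F} (h : S.IsAdj K K') : S.IsAdj K' K := fun x y => by
  rw [S.skew₁, ← h, ← S.skew₁]

theorem IsAdj.mul {K K' L L' : Matrix (Fin a) (Fin a) F} (h : S.IsAdj K K') (h' : S.IsAdj L L') :
    S.IsAdj (K * L) (L' * K') := fun x y => by
  rw [← Matrix.mulVec_mulVec, ← Matrix.mulVec_mulVec, h, h']

theorem IsAdj.add {K K' L L' : Matrix (Fin a) (Fin a) F} (h : S.IsAdj K K') (h' : S.IsAdj L L') :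
    S.IsAdj (K + L) (K' + L') := fun x y => by
  simp only [Matrix.add_mulVec, map_add, LinearMap.add_apply, h x y, h' x y]

theorem IsAdj.smul {K K' : Matrix (Fin a) (Fin a) F} (h : S.IsAdj K K') (c : F) :
    S.IsAdj (c • K) (c • K') := fun x y => by
  simp only [Matrix.smul_mulVec, map_smul, LinearMap.smul_apply, h x y]

theorem isAdj_one : S.IsAdj 1 1 := fun x y => by rw [Matrix.one_mulVec, Matrix.one_mulVec]

theorem isAdj_scalar (c : F) : S.IsAdj (c • 1) (c • 1) := IsAdj.smul S S.isAdj_one c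

theorem IsAdj.unique {K K' K'' : Matrix (Fin a) (Fin a) F} (h : S.IsAdj K K') (h' : S.IsAdj K K'') :
    K' = K'' :=
  Matrix.ext_iff_mulVec.2 fun y => sub_eq_zero.1 (S.nd₁' fun x => by rw [map_sub, ← h, ← h', sub_self])

theorem exists_adj (K : Matrix (Fin a) (Fin a) F) : ∃ K', S.IsAdj K K' := by
  have h : ∀ y, ∃ z, ∀ x, S.B₁ (K *ᵥ x) y = S.B₁ x z := fun y => by
    obtain ⟨w, hw⟩ := S.rep₁ ((LinearMap.flip S.B₁ y).comp K.mulVecLin)
    refine ⟨-w, fun x => ?_⟩
    rw [map_neg, ← S.skew₁, hw]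
    rfl
  choose z hz using h
  let f : (Fin a → F) →ₗ[F] (Fin a → F) :=
    { toFun := z
      map_add' := fun y y' => sub_eq_zero.1 (S.nd₁' fun x => by rw [map_sub, map_add, ← hz, ← hz, ← hz, map_add, sub_self])
      map_smul' := fun r y => sub_eq_zero.1 (S.nd₁' fun x => by
        rw [map_sub, RingHom.id_apply, map_smul, ← hz, ← hz, map_smul, sub_self]) }
  exact ⟨LinearMap.toMatrix' f, fun x y => by rw [LinearMap.toMatrix'_mulVec]; exact hz y x⟩

/-- The map `x ↦ B₁(d, x) c`. -/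
noncomputable def tau (c d : Fin a → F) : Matrix (Fin a) (Fin a) F :=
  LinearMap.toMatrix' ((S.B₁ d).smulRight c)

theorem tau_mulVec (c d x : Fin a → F) : S.tau c d *ᵥ x = S.B₁ d x • c :=
  LinearMap.toMatrix'_mulVec _ _

theorem isAdj_tau (c d : Fin a → F) : S.IsAdj (S.tau c d) (-S.tau d c) := fun x y => by
  rw [Matrix.neg_mulVec, tau_mulVec, tau_mulVec, map_smul, LinearMap.smul_apply, map_neg, map_smul,
    smul_eq_mul, smul_eq_mul, S.skew₁ x d]
  ring

theorem tau_mul_tau (c d e f : Fin a → F) : S.tau c d * S.tau e f = S.B₁ d e • S.tau c f :=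
  Matrix.ext_iff_mulVec.2 fun x => by
    simp only [← Matrix.mulVec_mulVec, tau_mulVec, Matrix.smul_mulVec, map_smul, smul_smul, smul_eq_mul, mul_comm]

theorem mul_tau (K : Matrix (Fin a) (Fin a) F) (c d : Fin a → F) : K * S.tau c d = S.tau (K *ᵥ c) d :=
  Matrix.ext_iff_mulVec.2 fun x => by rw [← Matrix.mulVec_mulVec, tau_mulVec, tau_mulVec, Matrix.mulVec_smul]

theorem tau_mul {K K' : Matrix (Fin a) (Fin a) F} (h : S.IsAdj K K') (c d : Fin a → F) :
    S.tau c d * K = S.tau c (K' *ᵥ d) :=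
  Matrix.ext_iff_mulVec.2 fun x => by
    rw [← Matrix.mulVec_mulVec, tau_mulVec, tau_mulVec, IsAdj.symm S h]

theorem tau_add_left (c c' d : Fin a → F) : S.tau (c + c') d = S.tau c d + S.tau c' d :=
  Matrix.ext_iff_mulVec.2 fun x => by simp only [Matrix.add_mulVec, tau_mulVec, smul_add]

theorem tau_add_right (c d d' : Fin a → F) : S.tau c (d + d') = S.tau c d + S.tau c d' :=
  Matrix.ext_iff_mulVec.2 fun x => by simp only [Matrix.add_mulVec, tau_mulVec, map_add, LinearMap.add_apply, add_smul]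

theorem tau_smul_left (r : F) (c d : Fin a → F) : S.tau (r • c) d = r • S.tau c d :=
  Matrix.ext_iff_mulVec.2 fun x => by rw [Matrix.smul_mulVec, tau_mulVec, tau_mulVec, smul_comm]

theorem tau_smul_right (r : F) (c d : Fin a → F) : S.tau c (r • d) = r • S.tau c d :=
  Matrix.ext_iff_mulVec.2 fun x => by
    rw [Matrix.smul_mulVec, tau_mulVec, tau_mulVec, map_smul, LinearMap.smul_apply, smul_eq_mul, mul_smul]

/-- The map `K ⊗ v w^* + K' ⊗ w v^*`. -/
def sk (K K' : Matrix (Fin a) (Fin a) F) (v w : Fin b → F) : Module.End F (T F a b) :=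
  te K v (S.B₂ w) + te K' w (S.B₂ v)

theorem sk_symm (K K' : Matrix (Fin a) (Fin a) F) (v w : Fin b → F) : S.sk K K' v w = S.sk K' K w v :=
  add_comm _ _

theorem sk_sq (K K' : Matrix (Fin a) (Fin a) F) {v w : Fin b → F} (h : S.B₂ v w = 0) :
    S.sk K K' v w * S.sk K K' v w = 0 := by
  simp [sk, add_mul, mul_add, te_mul_te, h, S.comm₂ h, S.alt₂]

/-- `K ↦ sk` commutator rule. -/
theorem sk_bracket {K K' L L' : Matrix (Fin a) (Fin a) F} {v w w' u : Fin b → F}
    (hvu : S.B₂ v u = 0) (hwu : S.B₂ w u = 0) (hvw' : S.B₂ v w' = 0) :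
    S.sk K K' v w * S.sk L L' w' u - S.sk L L' w' u * S.sk K K' v w =
        S.B₂ w w' • S.sk (K * L) (L' * K') v u ∧
      S.sk K K' v w * S.sk L L' w' u * S.sk K K' v w = 0 ∧
      S.sk L L' w' u * S.sk K K' v w * S.sk L L' w' u = 0 := by
  have e1 : S.sk K K' v w * S.sk L L' w' u = S.B₂ w w' • te (K * L) v (S.B₂ u) := by
    simp [sk, add_mul, mul_add, te_mul_te, hvu, hwu, hvw']
  have e2 : S.sk L L' w' u * S.sk K K' v w = -(S.B₂ w w' • te (L' * K') u (S.B₂ v)) := by
    simp [sk, add_mul, mul_add, te_mul_te, S.comm₂ hvu, S.comm₂ hwu, S.comm₂ hvw', S.skew₂ w w']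
    exact LinearMap.ext fun m => by simp
  refine ⟨?_, ?_, ?_⟩
  · rw [e1, e2, sub_neg_eq_add, sk, smul_add]
  · rw [e1, smul_mul_assoc]
    simp [sk, mul_add, te_mul_te, S.comm₂ hvu, S.comm₂ hwu]
  · refine LinearMap.ext fun m => ?_
    rw [e2]
    simp [sk, te_apply, ev_pure, hvu, hvw']

end Pair

/-- `MN` of `A N - N A - A N A` when `N A N = 0`. -/
theorem MN.twist {V : Type*} [AddCommGroup V] [Module F V] {M : Subgroup (Module.End F V)ˣ}
    {A N : Module.End F V} (hA : MN M A) (hN : MN M N) (h : N * A * N = 0) :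
    MN M (A * N - N * A - A * N * A) := by
  obtain ⟨hA2, u, hu, huA⟩ := hA
  have hN2 := hN.1
  have h2 := hN.conj hu
  rw [coe_inv_of_eq hA2 huA, huA] at h2
  have h' : ∀ X : Module.End F V, N * (A * (N * X)) = 0 := fun X => by
    rw [← mul_assoc A, ← mul_assoc N, ← mul_assoc N, h, zero_mul]
  have h'' : N * (A * N) = 0 := by rw [← mul_assoc]; exact h
  have z1 : ∀ X : Module.End F V, N * (N * X) = 0 := fun X => by rw [← mul_assoc, hN2, zero_mul]
  convert h2.sub hN ?_ ?_ using 1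
  · simp only [add_mul, mul_sub, one_mul, mul_one, mul_assoc]
    abel
  · simp only [add_mul, mul_sub, sub_mul, one_mul, mul_one, mul_assoc, hN2, h'', sub_zero, add_zero, mul_zero]
  · simp only [add_mul, mul_sub, mul_add, one_mul, mul_one, mul_assoc, hN2, h', h'', z1, sub_zero, add_zero]

end Cfsg.Agent.H98.TensorSp
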