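import Cfsg.Agent.H98.TensorSp.Form

/-!
The algebra of matrices `K` with `1 + sk K K' v w` in an overgroup.
-/

set_option autoImplicit false

namespace Cfsg.Agent.H98.TensorSp

open Module Matrix Cfsg.Agent.H98.ExtField Cfsg.Agent.H98.TensorGL

variable {F : Type*} [Field F] {a b : ℕ}

/-- A group of isometries containing the square-zero generators of both factors. -/
structure Gen (S : Pair F a b) (M : Subgroup (Module.End F (T F a b))ˣ) : Prop where
  right : ∀ (t : F) (v : Fin b → F), MN M (te (t • (1 : Matrix (Fin a) (Fin a) F)) v (S.B₂ v))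
  left : ∀ (t : F) (c : Fin a → F), MN M (lt (t • S.tau c c))
  iso : ∀ u ∈ M, ∀ x y, S.Bt ((u : Module.End F (T F a b)) x) ((u : Module.End F (T F a b)) y) = S.Bt x y

variable {S : Pair F a b} {M : Subgroup (Module.End F (T F a b))ˣ}

theorem Gen.siegel (hM : Gen S M) (t : F) {v w : Fin b → F} (h : S.B₂ v w = 0) :
    MN M (S.sk (t • 1) (t • 1) v w) := by
  have hz : ∀ {x y : Fin b → F}, S.B₂ x y = 0 →
      te (t • (1 : Matrix (Fin a) (Fin a) F)) x (S.B₂ x) * te (t • (1 : Matrix (Fin a) (Fin a) F)) y (S.B₂ y) = 0 :=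
    fun hxy => by rw [te_mul_te, hxy, zero_smul]
  have hs : S.B₂ (v + w) v = 0 := by rw [map_add, LinearMap.add_apply, S.alt₂, S.comm₂ h, add_zero]
  have hs' : S.B₂ (v + w) w = 0 := by rw [map_add, LinearMap.add_apply, S.alt₂, h, add_zero]
  have h1 := (hM.right t (v + w)).sub (hM.right t v) (hz hs) (hz (S.comm₂ hs))
  have h2 := h1.sub (hM.right t w) (by rw [sub_mul, hz hs', hz h, sub_zero])
    (by rw [mul_sub, hz (S.comm₂ hs'), hz (S.comm₂ h), sub_zero])
  convert h2 using 1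
  refine LinearMap.ext fun m => ?_
  have e : ev (S.B₂ (v + w)) m = ev (S.B₂ v) m + ev (S.B₂ w) m := funext fun i => by simp
  simp only [Pair.sk, LinearMap.add_apply, LinearMap.sub_apply, te_apply]
  rw [e]
  simp only [Matrix.mulVec_add, map_add]
  exact funext fun i => by simp only [TensorGL.pure_apply, Pi.add_apply, Pi.sub_apply, smul_add]; abel

/-- `1 + sk K K' v w` lies in `M` for all orthogonal independent `v`, `w`. -/
def InL (S : Pair F a b) (M : Subgroup (Module.End F (T F a b))ˣ) (K : Matrix (Fin a) (Fin a) F) : Prop :=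
  ∀ K', S.IsAdj K K' → ∀ v w : Fin b → F, v ≠ 0 → w ∉ Submodule.span F {v} → S.B₂ v w = 0 →
    MN M (S.sk K K' v w)

theorem mn_mul {K K' L L' : Matrix (Fin a) (Fin a) F} {v w w' u : Fin b → F} (hKK : MN M (S.sk K K' v w))
    (hLL : MN M (S.sk L L' w' u)) (hvu : S.B₂ v u = 0) (hwu : S.B₂ w u = 0) (hvw' : S.B₂ v w' = 0)
    (hww' : S.B₂ w w' = 1) : MN M (S.sk (K * L) (L' * K') v u) := by
  obtain ⟨h1, h2, h3⟩ := S.sk_bracket (K := K) (K' := K') (L := L) (L' := L') hvu hwu hvw'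
  have := MN.bracket hKK hLL h2 h3
  rwa [h1, hww', one_smul] at this

/-- A vector orthogonal to given ones outside two subspaces. -/
theorem exists_avoid (S : Pair F a b) (L : Fin 3 → (Fin b → F)) (U₁ U₂ : Submodule F (Fin b → F))
    (h₁ : finrank F U₁ + 3 < b) (h₂ : finrank F U₂ + 3 < b) :
    ∃ x, (∀ i, S.B₂ (L i) x = 0) ∧ x ∉ U₁ ∧ x ∉ U₂ := by
  let f : (Fin b → F) →ₗ[F] (Fin 3 → F) := LinearMap.pi fun i => S.B₂ (L i)
  have hker : b ≤ finrank F (LinearMap.ker f) + 3 := by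
    have h1 := LinearMap.finrank_range_add_finrank_ker f
    have h2 := Submodule.finrank_le (LinearMap.range f)
    rw [finrank_fin_fun] at h1 h2
    omega
  have hnot : ∀ U : Submodule F (Fin b → F), finrank F U + 3 < b → ¬ LinearMap.ker f ≤ U := fun U hU hle => by
    have := Submodule.finrank_mono hle
    omega
  obtain ⟨x, hx, hx'⟩ := SetLike.not_le_iff_exists.1 (hnot U₁ h₁)
  obtain ⟨y, hy, hy'⟩ := SetLike.not_le_iff_exists.1 (hnot U₂ h₂)
  have hmem : ∀ z ∈ LinearMap.ker f, ∀ i, S.B₂ (L i) z = 0 := fun z hz i => congrFun (LinearMap.mem_ker.1 hz) i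
  by_cases h : x ∈ U₂
  · by_cases h' : y ∈ U₁
    · exact ⟨x + y, hmem _ (add_mem hx hy), fun hc => hx' ((Submodule.add_mem_iff_left _ h').1 hc),
        fun hc => hy' ((Submodule.add_mem_iff_right _ h).1 hc)⟩
    · exact ⟨y, hmem _ hy, h', hy'⟩
  · exact ⟨x, hmem _ hx, hx', h⟩

theorem finrank_span_pair_le (x y : Fin b → F) : finrank F (Submodule.span F ({x, y} : Set (Fin b → F))) ≤ 2 := by
  classical
  have := finrank_span_le_card (R := F) ({x, y} : Set (Fin b → F))
  have h2 : ({x, y} : Set (Fin b → F)).toFinset.card ≤ 2 := by simpa using Finset.card_le_two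
  omega

theorem exists_partner (S : Pair F a b) {w : Fin b → F} {U : Submodule F (Fin b → F)} (hw : w ∉ U) (c : F) :
    ∃ w', S.B₂ w w' = c ∧ ∀ z ∈ U, S.B₂ z w' = 0 := by
  obtain ⟨φ, hφ, hle⟩ := Submodule.exists_le_ker_of_notMem hw
  obtain ⟨x, hx⟩ := S.rep₂ φ
  refine ⟨(-c / φ w) • x, ?_, fun z hz => ?_⟩
  · rw [map_smul, S.skew₂, hx, smul_eq_mul, mul_neg, neg_div, neg_mul, neg_neg, div_mul_cancel₀ _ hφ]
  · rw [map_smul, S.skew₂, hx, LinearMap.mem_ker.1 (hle hz), neg_zero, smul_zero]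

theorem Gen.step (hM : Gen S M) {K K' : Matrix (Fin a) (Fin a) F} {v w u : Fin b → F}
    (h : MN M (S.sk K K' v w)) (hvu : S.B₂ v u = 0) (hwu : S.B₂ w u = 0)
    (hw : w ∉ Submodule.span F {v, u}) (c : F) : MN M (S.sk (c • K) (c • K') v u) := by
  obtain ⟨w', hw', hz⟩ := exists_partner S hw 1
  have hu : S.B₂ w' u = 0 := S.comm₂ (hz u (Submodule.subset_span (by simp)))
  have := mn_mul h (hM.siegel c hu) hvu hwu (hz v (Submodule.subset_span (by simp))) hw'
  simpa using this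

theorem Gen.move (hM : Gen S M) (hb : 6 ≤ b) {K K' : Matrix (Fin a) (Fin a) F} {v w u : Fin b → F}
    (h : MN M (S.sk K K' v w)) (hw : w ∉ Submodule.span F {v}) (hvu : S.B₂ v u = 0)
    (c : F) : MN M (S.sk (c • K) (c • K') v u) := by
  obtain ⟨x, hx, hx1, hx2⟩ := exists_avoid S ![v, w, u] _ _
    (lt_of_le_of_lt (Nat.add_le_add_right (finrank_span_pair_le v w) 3) (by omega))
    (lt_of_le_of_lt (Nat.add_le_add_right (finrank_span_pair_le v u) 3) (by omega))
  have h1 : MN M (S.sk ((1 : F) • K) ((1 : F) • K') v x) := by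
    refine hM.step h (hx 0) (hx 1) (fun hm => ?_) 1
    obtain ⟨s, t, hst⟩ := Submodule.mem_span_pair.1 hm
    rcases eq_or_ne t 0 with rfl | ht
    · exact hw (Submodule.mem_span_singleton.2 ⟨s, by simpa using hst⟩)
    · exact hx1 (Submodule.mem_span_pair.2 ⟨-(t⁻¹ * s), t⁻¹, by
        rw [← hst, smul_add, smul_smul, smul_smul, inv_mul_cancel₀ ht, one_smul, neg_smul]; abel⟩)
  rw [one_smul, one_smul] at h1
  exact hM.step h1 hvu (S.comm₂ (hx 2)) hx2 c

theorem not_mem_span_symm {v w : Fin b → F} (hv : v ≠ 0) (hw : w ∉ Submodule.span F {v}) :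
    v ∉ Submodule.span F {w} := fun h => by
  obtain ⟨t, ht⟩ := Submodule.mem_span_singleton.1 h
  rcases eq_or_ne t 0 with rfl | ht0
  · exact hv (by rw [← ht, zero_smul])
  · exact hw (Submodule.mem_span_singleton.2 ⟨t⁻¹, by rw [← ht, inv_smul_smul₀ ht0]⟩)

/-- One pair suffices. -/
theorem Gen.inL (hM : Gen S M) (hb : 6 ≤ b) {K K' : Matrix (Fin a) (Fin a) F} (hadj : S.IsAdj K K')
    {v w : Fin b → F} (hv : v ≠ 0) (hw : w ∉ Submodule.span F {v}) (h : MN M (S.sk K K' v w)) (c : F) :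
    InL S M (c • K) := by
  intro L' hL v' w' hv' hw' hvw'
  obtain rfl := Pair.IsAdj.unique S (Pair.IsAdj.smul S hadj c) hL
  have h1 : finrank F (Submodule.span F ({v} : Set (Fin b → F))) + 3 < b := by
    rw [finrank_span_singleton hv]; omega
  have h2 : finrank F (Submodule.span F ({v'} : Set (Fin b → F))) + 3 < b := by
    rw [finrank_span_singleton hv']; omega
  obtain ⟨x, hx, hx1, hx2⟩ := exists_avoid S ![v, v', v] _ _ h1 h2
  have a1 := hM.move hb h hw (hx 0) c
  rw [S.sk_symm] at a1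
  have a2 := hM.move hb a1 (not_mem_span_symm hv hx1) (S.comm₂ (hx 1)) 1
  rw [one_smul, one_smul, S.sk_symm] at a2
  have a3 := hM.move hb a2 hx2 hvw' 1
  rwa [one_smul, one_smul] at a3

theorem exists_pairs (S : Pair F a b) (hb : 6 ≤ b) :
    ∃ v w u : Fin b → F, v ≠ 0 ∧ w ∉ Submodule.span F {v} ∧ u ∉ Submodule.span F {v} ∧
      S.B₂ v w = 0 ∧ S.B₂ v u = 0 ∧ S.B₂ w u = 0 ∧ w ∉ Submodule.span F {v, u} := by
  have hv : (Pi.single ⟨0, by omega⟩ 1 : Fin b → F) ≠ 0 := by simp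
  set v : Fin b → F := Pi.single ⟨0, by omega⟩ 1
  have h1 : finrank F (Submodule.span F ({v} : Set (Fin b → F))) + 3 < b := by
    rw [finrank_span_singleton hv]; omega
  obtain ⟨w, hw, hw', -⟩ := exists_avoid S ![v, v, v] _ _ h1 h1
  have h2 := lt_of_le_of_lt (Nat.add_le_add_right (finrank_span_pair_le v w) 3) (show 2 + 3 < b by omega)
  obtain ⟨u, hu, hu', -⟩ := exists_avoid S ![v, w, v] _ _ h2 h2
  refine ⟨v, w, u, hv, hw', fun h => hu' (Submodule.span_mono (by simp) h), hw 0, hu 0, hu 1, fun hm => ?_⟩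
  obtain ⟨s, t, hst⟩ := Submodule.mem_span_pair.1 hm
  rcases eq_or_ne t 0 with rfl | ht
  · exact hw' (Submodule.mem_span_singleton.2 ⟨s, by simpa using hst⟩)
  · exact hu' (Submodule.mem_span_pair.2 ⟨-(t⁻¹ * s), t⁻¹, by
      rw [← hst, smul_add, smul_smul, smul_smul, inv_mul_cancel₀ ht, one_smul, neg_smul]; abel⟩)

theorem Gen.inL_scalar (hM : Gen S M) (c : F) : InL S M (c • 1) := fun K' hK v w _ _ h => by
  obtain rfl := Pair.IsAdj.unique S (S.isAdj_scalar c) hK
  exact hM.siegel c h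

theorem InL.adj {K K' : Matrix (Fin a) (Fin a) F} (hK : InL S M K) (h : S.IsAdj K K') :
    InL S M K' := fun L hL v w hv hw hvw => by
  obtain rfl := Pair.IsAdj.unique S (Pair.IsAdj.symm S h) hL
  rw [S.sk_symm]
  exact hK K' h w v (fun e => hw (e ▸ Submodule.zero_mem _)) (not_mem_span_symm hv hw) (S.comm₂ hvw)

theorem InL.smul (hM : Gen S M) (hb : 6 ≤ b) {K : Matrix (Fin a) (Fin a) F} (hK : InL S M K) (c : F) :
    InL S M (c • K) := by
  obtain ⟨K', h⟩ := S.exists_adj K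
  obtain ⟨v, w, -, hv, hw, -, hvw, -⟩ := exists_pairs S hb
  exact hM.inL hb h hv hw (hK K' h v w hv hw hvw) c

theorem InL.add {K L : Matrix (Fin a) (Fin a) F} (hK : InL S M K) (hL : InL S M L) : InL S M (K + L) := by
  obtain ⟨K', h⟩ := S.exists_adj K
  obtain ⟨L', h'⟩ := S.exists_adj L
  intro X hX v w hv hw hvw
  obtain rfl := Pair.IsAdj.unique S (Pair.IsAdj.add S h h') hX
  have := (hK K' h v w hv hw hvw).add (hL L' h' v w hv hw hvw)
    (by simp [Pair.sk, add_mul, mul_add, te_mul_te, hvw, S.comm₂ hvw, S.alt₂])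
    (by simp [Pair.sk, add_mul, mul_add, te_mul_te, hvw, S.comm₂ hvw, S.alt₂])
  convert this using 1
  simp only [Pair.sk, te_add]
  abel

theorem InL.mul (hM : Gen S M) (hb : 6 ≤ b) {K L : Matrix (Fin a) (Fin a) F} (hK : InL S M K)
    (hL : InL S M L) : InL S M (K * L) := by
  obtain ⟨K', h⟩ := S.exists_adj K
  obtain ⟨L', h'⟩ := S.exists_adj L
  obtain ⟨v, w, u, hv, hw, hu, hvw, hvu, hwu, hwn⟩ := exists_pairs S hb
  obtain ⟨w', hw', hz⟩ := exists_partner S hwn 1
  have hvw' : S.B₂ v w' = 0 := hz v (Submodule.subset_span (by simp))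
  have huw' : S.B₂ w' u = 0 := S.comm₂ (hz u (Submodule.subset_span (by simp)))
  have hw'0 : w' ≠ 0 := fun e => by simp [e] at hw'
  have hu' : u ∉ Submodule.span F {w'} := fun hm => by
    obtain ⟨t, rfl⟩ := Submodule.mem_span_singleton.1 hm
    rw [map_smul, hw', smul_eq_mul, mul_one] at hwu
    exact hu (by rw [hwu, zero_smul]; exact Submodule.zero_mem _)
  have := hM.inL hb (Pair.IsAdj.mul S h h') hv hu
    (mn_mul (hK K' h v w hv hw hvw) (hL L' h' w' u hw'0 hu' huw') hvu hwu hvw' hw') 1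
  rwa [one_smul] at this

theorem InL.conj (hM : Gen S M) {K : Matrix (Fin a) (Fin a) F} (hK : InL S M K) (t : F) (c : Fin a → F) :
    InL S M ((1 + t • S.tau c c) * K * (1 - t • S.tau c c)) := by
  obtain ⟨K', h⟩ := S.exists_adj K
  have hN : S.IsAdj (t • S.tau c c) (-(t • S.tau c c)) := by
    simpa [smul_neg] using Pair.IsAdj.smul S (S.isAdj_tau c c) t
  have h1 : S.IsAdj (1 + t • S.tau c c) (1 - t • S.tau c c) := by
    simpa [sub_eq_add_neg] using Pair.IsAdj.add S S.isAdj_one hN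
  have h2 : S.IsAdj (1 - t • S.tau c c) (1 + t • S.tau c c) := Pair.IsAdj.symm S h1
  intro X hX v w hv hw hvw
  obtain rfl := Pair.IsAdj.unique S (Pair.IsAdj.mul S (Pair.IsAdj.mul S h1 h) h2) hX
  obtain ⟨hN2, u, hu, huN⟩ := hM.left t c
  have := (hK K' h v w hv hw hvw).conj hu
  rw [coe_inv_of_eq hN2 huN, huN] at this
  convert this using 1
  have hsub : lt (1 - t • S.tau c c) = (1 : Module.End F (T F a b)) - lt (t • S.tau c c) := by
    rw [eq_sub_iff_add_eq, ← lt_add, sub_add_cancel, lt_one]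
  rw [← hsub, ← lt_one, ← lt_add]
  simp only [Pair.sk, mul_add, add_mul, lt_mul_te, te_mul_lt, mul_assoc]

end Cfsg.Agent.H98.TensorSp
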